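import Cfsg.Agent.Lib.Ree.M7

/-! The small Ree groups in their seven-dimensional representation. -/

set_option autoImplicit false
set_option linter.unusedSectionVars false

namespace Cfsg.Agent.Ree

open Matrix

variable {K : Type*} [Field K]

/-- The norm function (corner entry). -/
def nm (Φ : K →+* K) (a b c : K) : K :=
  -(Φ b * b) + Φ c * a - c ^ 2 - a * b * c - Φ a * a ^ 3 * b + Φ a ^ 2 * a ^ 4

/-- The matrices of the Sylow `3`-subgroup. -/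
def uM (Φ : K →+* K) (a b c : K) : Matrix (Fin 7) (Fin 7) K :=
  !![1, a, -b, -c + a * b, -(Φ b) - a * c - Φ a * a ^ 3, -(Φ c) - b * c - a * b ^ 2 - Φ a ^ 2 * a ^ 3, nm Φ a b c;
    0, 1, Φ a, b + Φ a * a, -c - Φ a * a ^ 2, Φ a * c - b ^ 2 + Φ a * a * b,
      Φ c + Φ a * Φ b - b * c - Φ a * a * c - Φ a * a ^ 2 * b - Φ a ^ 2 * a ^ 3;
    0, 0, 1, a, -(a ^ 2), c + a * b, Φ b - a * c - a ^ 2 * b + Φ a * a ^ 3;
    0, 0, 0, 1, a, b, -c + a * b;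
    0, 0, 0, 0, 1, -(Φ a), b + Φ a * a;
    0, 0, 0, 0, 0, 1, -a;
    0, 0, 0, 0, 0, 0, 1]

/-- The matrices of the torus. -/
def hM (Φ : K →+* K) (k : K) : Matrix (Fin 7) (Fin 7) K :=
  !![k ^ 2 * Φ k, 0, 0, 0, 0, 0, 0; 0, k * Φ k, 0, 0, 0, 0, 0; 0, 0, k, 0, 0, 0, 0; 0, 0, 0, 1, 0, 0, 0;
    0, 0, 0, 0, k⁻¹, 0, 0; 0, 0, 0, 0, 0, k⁻¹ * (Φ k)⁻¹, 0; 0, 0, 0, 0, 0, 0, k⁻¹ ^ 2 * (Φ k)⁻¹]

/-- The matrix of the Weyl element. -/
def wM (K : Type*) [Field K] : Matrix (Fin 7) (Fin 7) K :=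
  !![0, 0, 0, 0, 0, 0, -1; 0, 0, 0, 0, 0, -1, 0; 0, 0, 0, 0, -1, 0, 0; 0, 0, 0, -1, 0, 0, 0;
    0, 0, -1, 0, 0, 0, 0; 0, -1, 0, 0, 0, 0, 0; -1, 0, 0, 0, 0, 0, 0]

theorem one7 : (1 : Matrix (Fin 7) (Fin 7) K) =
    !![1, 0, 0, 0, 0, 0, 0; 0, 1, 0, 0, 0, 0, 0; 0, 0, 1, 0, 0, 0, 0; 0, 0, 0, 1, 0, 0, 0;
    0, 0, 0, 0, 1, 0, 0; 0, 0, 0, 0, 0, 1, 0; 0, 0, 0, 0, 0, 0, 1] := by
  ext i j; fin_cases i <;> fin_cases j <;> rfl

/-- A small Ree group over `K`, with its seven-dimensional representation. -/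
structure RG (K : Type*) [Field K] (m : ℕ) (Γ : Type*) [Group Γ] where
  Φ : K →+* K
  char : CharP K 3
  hm : 1 ≤ m
  card : Nat.card K = 3 ^ (2 * m + 1)
  Φ_def : ∀ x, Φ x = x ^ 3 ^ (m + 1)
  ΦΦ : ∀ x, Φ (Φ x) = x ^ 3
  u : K → K → K → Γ
  h : Kˣ →* Γ
  w : Γ
  ρ : Γ →* Matrix (Fin 7) (Fin 7) K
  ρ_inj : Function.Injective ρ
  ρ_u : ∀ a b c, ρ (u a b c) = uM Φ a b c
  ρ_h : ∀ k, ρ (h k) = hM Φ k
  ρ_w : ρ w = wM K
  bruhat : ∀ g, (∃ a b c k, g = u a b c * h k) ∨ ∃ a b c k a' b' c', g = u a b c * h k * w * u a' b' c'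
  invol : ∀ s s' : Γ, orderOf s = 2 → orderOf s' = 2 → IsConj s s'

namespace RG

variable {m : ℕ} {Γ : Type*} [Group Γ] (R : RG K m Γ)
include R

theorem three : (3 : K) = 0 := have := R.char; CharP.cast_eq_zero K 3

theorem two_ne : (2 : K) ≠ 0 := fun h => one_ne_zero (α := K) (by linear_combination R.three - h)

theorem Φ_ne {k : K} (hk : k ≠ 0) : R.Φ k ≠ 0 := (_root_.map_ne_zero _).2 hk

theorem u_mul (a b c a' b' c' : K) : R.u a b c * R.u a' b' c' =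
    R.u (a + a') (b + b' - a * R.Φ a') (c + c' - b * a' - a ^ 2 * R.Φ a' + a * a' * R.Φ a') := by
  have := R.char
  refine R.ρ_inj ?_
  simp only [map_mul, R.ρ_u, uM, nm, mul7, map_add, map_sub, map_pow, R.ΦΦ]
  refine ext7 ?_
  simp only [mul_zero, zero_mul, mul_one, one_mul, add_zero, zero_add, true_and, and_true]
  refine ⟨?_, ?_, ?_, ?_, ?_, ?_, ?_, ?_, ?_, ?_, ?_, ?_, ?_, ?_, ?_, ?_, ?_, ?_, ?_, ?_, ?_⟩ <;> grind

theorem u_zero : R.u 0 0 0 = 1 := R.ρ_inj (by simp [R.ρ_u, uM, nm, one7])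

theorem u_inj {a b c a' b' c' : K} (e : R.u a b c = R.u a' b' c') : a = a' ∧ b = b' ∧ c = c' := by
  have h := congrArg R.ρ e
  rw [R.ρ_u, R.ρ_u] at h
  have h1 : a = a' := congrFun (congrFun h 0) 1
  have h2 : -b = -b' := congrFun (congrFun h 0) 2
  have h3 : -c + a * b = -c' + a' * b' := congrFun (congrFun h 0) 3
  grind

theorem h_mul_u (k : Kˣ) (a b c : K) : R.h k * R.u a b c =
    R.u (k * a) (k * R.Φ k * b) (k ^ 2 * R.Φ k * c) * R.h k := by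
  have h1 := k.ne_zero
  have h2 := R.Φ_ne h1
  refine R.ρ_inj ?_
  simp only [map_mul, R.ρ_u, R.ρ_h, uM, hM, nm, mul7, map_pow, R.ΦΦ]
  refine ext7 ?_
  simp only [mul_zero, zero_mul, mul_one, one_mul, add_zero, zero_add, true_and, and_true]
  refine ⟨?_, ?_, ?_, ?_, ?_, ?_, ?_, ?_, ?_, ?_, ?_, ?_, ?_, ?_, ?_, ?_, ?_, ?_, ?_, ?_⟩ <;> field_simp

theorem w_mul_w : R.w * R.w = 1 := R.ρ_inj (by simp [R.ρ_w, wM, one7])

theorem w_mul_h (k : Kˣ) : R.w * R.h k = R.h k⁻¹ * R.w := by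
  refine R.ρ_inj ?_
  simp [-map_inv, R.ρ_h, R.ρ_w, hM, wM, map_inv₀]

theorem fin : Finite K := Nat.finite_of_card_ne_zero (by rw [R.card]; positivity)

theorem big : 27 ≤ Nat.card K := by
  rw [R.card]; exact Nat.pow_le_pow_right (n := 3) (i := 3) (by norm_num) (by have := R.hm; omega)

theorem three_dvd : 3 ∣ Nat.card K := by rw [R.card]; exact dvd_pow_self _ (by omega)

theorem Φ_surj : Function.Surjective R.Φ := have := R.fin; Finite.injective_iff_surjective.1 R.Φ.injective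

theorem cube_eq {x : K} (h : x ^ 3 = x) : x = 0 ∨ x = 1 ∨ x = -1 := by
  have : x * ((x - 1) * (x + 1)) = 0 := by linear_combination h
  simpa [sub_eq_zero, add_eq_zero_iff_eq_neg] using this

theorem Φ_eq_self {x : K} (h : R.Φ x = x) : x = 0 ∨ x = 1 ∨ x = -1 := R.cube_eq (by rw [← R.ΦΦ, h, h])

theorem sq_ne_neg_one (x : K) : x ^ 2 ≠ -1 := fun h => by
  have h1 : R.Φ x ^ 2 = x ^ 2 := by rw [← map_pow, h, map_neg, map_one]
  have h2 : R.Φ (R.Φ x) = x := by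
    rcases sq_eq_sq_iff_eq_or_eq_neg.1 h1 with h2 | h2 <;> simp [h2]
  rw [R.ΦΦ] at h2
  have := R.char
  rcases R.cube_eq h2 with rfl | rfl | rfl <;> grind

theorem exists_big : ∃ k : K, k ≠ 0 ∧ k ≠ 1 ∧ k ≠ -1 := by
  classical
  have := R.fin
  have := Fintype.ofFinite K
  by_contra! h
  have h1 : (Finset.univ : Finset K) ⊆ {0, 1, -1} := fun k _ => by
    have := h k; simp only [Finset.mem_insert, Finset.mem_singleton]; tauto
  have h2 := (Finset.card_le_card h1).trans Finset.card_le_three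
  have := R.big
  rw [Nat.card_eq_fintype_card] at this
  simp at h2; omega

theorem exists_unit : ∃ k : Kˣ, (k : K) ^ 2 ≠ 1 ∧ R.Φ k ≠ k := by
  obtain ⟨k, h0, h1, h2⟩ := R.exists_big
  exact ⟨Units.mk0 k h0, by simp [h1, h2], fun h => by simpa [h0, h1, h2] using R.Φ_eq_self h⟩

theorem w2_eq_one {k : K} (h : k * R.Φ k = 1) : k ^ 2 = 1 := by
  have h1 := congrArg R.Φ h
  rw [map_mul, R.ΦΦ, map_one] at h1
  linear_combination h1 - k ^ 2 * h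

theorem w3_eq_one {k : K} (h : k ^ 2 * R.Φ k = 1) : k = 1 := by
  have h1 := congrArg R.Φ h
  rw [map_mul, map_pow, R.ΦΦ, map_one] at h1
  linear_combination (k ^ 2 * R.Φ k + 1) * h - k * h1

theorem exists_w3 {c : K} (hc : c ≠ 0) : ∃ k : Kˣ, (k : K) ^ 2 * R.Φ k = c := by
  have h1 := R.Φ_ne hc
  refine ⟨Units.mk0 (c ^ 2 / R.Φ c) (by positivity), ?_⟩
  simp only [Units.val_mk0, map_div₀, map_pow, R.ΦΦ]
  field_simp

theorem isSquare_or {c : K} (hc : c ≠ 0) : IsSquare c ∨ IsSquare (-c) := by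
  classical
  have := R.fin
  have := Fintype.ofFinite K
  have h1 : ¬ IsSquare (-1 : K) := fun ⟨x, hx⟩ => R.sq_ne_neg_one x (by rw [hx, sq])
  by_contra! h
  have h2 := quadraticChar_neg_one_iff_not_isSquare.2 h1
  have h3 := quadraticChar_neg_one_iff_not_isSquare.2 h.1
  have h4 := quadraticChar_neg_one_iff_not_isSquare.2 h.2
  rw [← neg_one_mul, map_mul, h2, h3] at h4
  norm_num at h4

theorem exists_w2_sq {c : K} (hc : c ≠ 0) : ∃ k : Kˣ, (k : K) * R.Φ k = c ^ 2 := by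
  have h1 := R.Φ_ne hc
  refine ⟨Units.mk0 (R.Φ c / c) (by positivity), ?_⟩
  simp only [Units.val_mk0, map_div₀, R.ΦΦ]
  field_simp

theorem exists_w2 {c : K} (hc : c ≠ 0) : ∃ k : Kˣ, (k : K) * R.Φ k = c ∨ (k : K) * R.Φ k = -c := by
  rcases R.isSquare_or hc with ⟨x, h⟩ | ⟨x, h⟩
  · obtain ⟨k, hk⟩ := R.exists_w2_sq (c := x) (by rintro rfl; simp [hc] at h)
    exact ⟨k, .inl (by rw [hk, h, sq])⟩
  · obtain ⟨k, hk⟩ := R.exists_w2_sq (c := x) (by rintro rfl; simp [hc] at h)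
    exact ⟨k, .inr (by rw [hk, h, sq])⟩

theorem h_conj (k : Kˣ) (a b c : K) : R.h k * R.u a b c * (R.h k)⁻¹ =
    R.u (k * a) (k * R.Φ k * b) (k ^ 2 * R.Φ k * c) := by rw [h_mul_u, mul_inv_cancel_right]

theorem u_inv (a b c : K) : (R.u a b c)⁻¹ = R.u (-a) (-b - a * R.Φ a) (-c - a * b + a ^ 2 * R.Φ a) :=
  inv_eq_of_mul_eq_one_right (by
    have := R.char
    rw [R.u_mul, ← R.u_zero, map_neg]; congr 1 <;> grind)

theorem u_eq_iff {a b c a' b' c' : K} : R.u a b c = R.u a' b' c' ↔ a = a' ∧ b = b' ∧ c = c' :=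
  ⟨R.u_inj, by rintro ⟨rfl, rfl, rfl⟩; rfl⟩

theorem u_eq_one {a b c : K} : R.u a b c = 1 ↔ a = 0 ∧ b = 0 ∧ c = 0 := by rw [← R.u_zero, u_eq_iff]

theorem u_cube (a b c : K) : R.u a b c ^ 3 = R.u 0 0 (-(a ^ 2 * R.Φ a)) := by
  have := R.char
  rw [pow_succ, sq, R.u_mul, R.u_mul]
  congr 1 <;> grind

theorem u_conj (x y z a b c : K) : R.u x y z * R.u a b c * (R.u x y z)⁻¹ =
    R.u a (b + a * R.Φ x - x * R.Φ a) (c + x * b - y * a + a * x * R.Φ a + x ^ 2 * R.Φ a + a ^ 2 * R.Φ x) := by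
  have := R.char
  rw [mul_inv_eq_iff_eq_mul, R.u_mul, R.u_mul]
  congr 1 <;> grind

theorem h_inj : Function.Injective R.h := fun k k' e => by
  have h := congrArg R.ρ e
  rw [R.ρ_h, R.ρ_h] at h
  exact Units.ext (congrFun (congrFun h 2) 2)

theorem h_eq_one {k : Kˣ} : R.h k = 1 ↔ k = 1 := map_eq_one_iff _ R.h_inj

theorem w_inv : R.w⁻¹ = R.w := inv_eq_of_mul_eq_one_right R.w_mul_w

theorem w_w (g : Γ) : R.w * (R.w * g) = g := by rw [← mul_assoc, w_mul_w, one_mul]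

theorem w_h_w (k : Kˣ) : R.w * R.h k * R.w = R.h k⁻¹ := by rw [w_mul_h, mul_assoc, w_mul_w, mul_one]

theorem h_mul_w (k : Kˣ) : R.h k * R.w = R.w * R.h k⁻¹ := by rw [w_mul_h, inv_inv]

theorem hw_sq (k : Kˣ) : R.h k * R.w * (R.h k * R.w) = 1 := by
  rw [mul_assoc, ← mul_assoc R.w, w_h_w, ← map_mul, mul_inv_cancel, map_one]

theorem h_comm (k k' : Kˣ) : R.h k * R.h k' = R.h k' * R.h k := by rw [← map_mul, ← map_mul, mul_comm]

/-- The Sylow `3`-subgroup. -/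
def U : Subgroup Γ where
  carrier := {g | ∃ a b c, g = R.u a b c}
  one_mem' := ⟨_, _, _, R.u_zero.symm⟩
  mul_mem' := by rintro _ _ ⟨_, _, _, rfl⟩ ⟨_, _, _, rfl⟩; exact ⟨_, _, _, R.u_mul ..⟩
  inv_mem' := by rintro _ ⟨_, _, _, rfl⟩; exact ⟨_, _, _, R.u_inv ..⟩

theorem u_mem (a b c : K) : R.u a b c ∈ R.U := ⟨_, _, _, rfl⟩

theorem h_conj_mem (k : Kˣ) {g : Γ} (hg : g ∈ R.U) : R.h k * g * (R.h k)⁻¹ ∈ R.U := by
  obtain ⟨_, _, _, rfl⟩ := hg; exact ⟨_, _, _, R.h_conj ..⟩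

/-- The Borel subgroup. -/
def B : Subgroup Γ where
  carrier := {g | ∃ y ∈ R.U, ∃ k, g = y * R.h k}
  one_mem' := ⟨1, one_mem _, 1, by simp⟩
  mul_mem' := by
    rintro _ _ ⟨y, hy, c, rfl⟩ ⟨y', hy', c', rfl⟩
    exact ⟨_, mul_mem hy (R.h_conj_mem c hy'), c * c', by simp [mul_assoc]⟩
  inv_mem' := by
    rintro _ ⟨y, hy, c, rfl⟩
    exact ⟨_, R.h_conj_mem c⁻¹ (inv_mem hy), c⁻¹, by simp [mul_assoc]⟩

theorem U_le_B : R.U ≤ R.B := fun y hy => ⟨y, hy, 1, by simp⟩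

theorem u_mem_B (a b c : K) : R.u a b c ∈ R.B := R.U_le_B (R.u_mem ..)

theorem h_mem (k : Kˣ) : R.h k ∈ R.B := ⟨1, one_mem _, k, by simp⟩

theorem ρ_B {g : Γ} (hg : g ∈ R.B) {i j : Fin 7} (h : j < i) : R.ρ g i j = 0 := by
  obtain ⟨_, ⟨a, b, c, rfl⟩, k, rfl⟩ := hg
  simp only [map_mul, R.ρ_u, R.ρ_h, uM, hM, mul7]
  fin_cases i <;> fin_cases j <;> simp at h ⊢

theorem mem_B_iff {g : Γ} : g ∈ R.B ↔ R.ρ g 6 0 = 0 := by
  refine ⟨fun h => R.ρ_B h (by decide), fun h => ?_⟩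
  rcases R.bruhat g with ⟨a, b, c, k, rfl⟩ | ⟨a, b, c, k, a', b', c', rfl⟩
  · exact ⟨_, R.u_mem .., k, rfl⟩
  · simp [R.ρ_u, R.ρ_h, R.ρ_w, uM, hM, wM] at h

theorem w_not_mem : R.w ∉ R.B := by simp [mem_B_iff, R.ρ_w, wM]

theorem eq_one_of_conj_mem {y : Γ} (hy : y ∈ R.U) (h : R.w * y * R.w ∈ R.B) : y = 1 := by
  obtain ⟨a, b, c, rfl⟩ := hy
  have h1 := R.ρ_B h (i := 6) (j := 5) (by decide)
  have h2 := R.ρ_B h (i := 6) (j := 4) (by decide)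
  have h3 := R.ρ_B h (i := 6) (j := 3) (by decide)
  simp only [map_mul, R.ρ_u, R.ρ_w, uM, wM, mul7] at h1 h2 h3
  simp at h1 h2 h3
  simp_all [u_eq_one]

theorem nm_ne {a b c : K} (h : R.u a b c ≠ 1) : nm R.Φ a b c ≠ 0 := fun h1 =>
  h (R.eq_one_of_conj_mem (R.u_mem ..) (by simp [mem_B_iff, R.ρ_u, R.ρ_w, uM, wM, h1]))

theorem B_unique {y y' : Γ} (hy : y ∈ R.U) (hy' : y' ∈ R.U) {k k' : Kˣ} (e : y * R.h k = y' * R.h k') :
    y = y' ∧ k = k' := by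
  obtain ⟨a, b, c, rfl⟩ := hy
  obtain ⟨a', b', c', rfl⟩ := hy'
  have h := congrFun (congrFun (congrArg R.ρ e) 2) 2
  simp only [map_mul, R.ρ_u, R.ρ_h, uM, hM, mul7] at h
  obtain rfl : k = k' := Units.ext (by simpa using h)
  exact ⟨mul_right_cancel e, rfl⟩

theorem eq_one_of_h_mem {k : Kˣ} (h : R.h k ∈ R.U) : k = 1 :=
  (R.B_unique (one_mem _) h (k' := 1) (by simp)).2

theorem conj_mem_U {g y : Γ} (hg : g ∈ R.B) (hy : y ∈ R.U) : g * y * g⁻¹ ∈ R.U := by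
  obtain ⟨z, hz, c, rfl⟩ := hg
  simpa [mul_assoc] using mul_mem (mul_mem hz (R.h_conj_mem c hy)) (inv_mem hz)

theorem exists_coset (g : Γ) : g ∈ R.B ∨ ∃ y ∈ R.U, ∃ b ∈ R.B, g = y * R.w * b := by
  rcases R.bruhat g with ⟨t, a, v, c, rfl⟩ | ⟨t, a, v, c, t', a', v', rfl⟩
  · exact Or.inl ⟨_, R.u_mem .., c, rfl⟩
  · refine Or.inr ⟨_, R.u_mem t a v, _, mul_mem (R.h_mem c⁻¹) (R.u_mem_B t' a' v'), ?_⟩
    rw [mul_assoc (R.u t a v), h_mul_w]; group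

theorem bruhat' {g : Γ} (hg : g ∉ R.B) : ∃ y ∈ R.U, ∃ k, ∃ y' ∈ R.U, g = y * R.h k * R.w * y' :=
  ((R.bruhat g).resolve_left fun ⟨_, _, _, k, e⟩ => hg ⟨_, R.u_mem .., k, e⟩).elim
    fun _ ⟨_, _, k, _, _, _, e⟩ => ⟨_, R.u_mem .., k, _, R.u_mem .., e⟩

theorem mem_B_of_conj_mem {g y : Γ} (hy : y ∈ R.U) (h1 : y ≠ 1) (h : g * y * g⁻¹ ∈ R.B) : g ∈ R.B := by
  refine (R.exists_coset g).resolve_right ?_
  rintro ⟨z, hz, b, hb, rfl⟩
  refine h1 ?_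
  have h2 := R.eq_one_of_conj_mem (R.conj_mem_U hb hy) (by
    simpa [mul_assoc, R.w_inv] using mul_mem (mul_mem (inv_mem (R.U_le_B hz)) h) (R.U_le_B hz))
  simpa using h2

theorem bruhat_unique {y y' z z' : Γ} (hy : y ∈ R.U) (hy' : y' ∈ R.U) (hz : z ∈ R.U) (hz' : z' ∈ R.U) {k k' : Kˣ}
    (e : y * R.h k * R.w * z = y' * R.h k' * R.w * z') : y = y' ∧ k = k' ∧ z = z' := by
  have h1 : z * z'⁻¹ = 1 := R.eq_one_of_conj_mem (mul_mem hz (inv_mem hz')) (by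
    have : R.w * (z * z'⁻¹) * R.w = (y * R.h k)⁻¹ * (y' * R.h k') := by
      rw [eq_inv_mul_iff_mul_eq, ← mul_assoc, ← mul_assoc, ← mul_assoc, e, mul_inv_cancel_right, mul_assoc, w_mul_w,
        mul_one]
    rw [this]
    exact mul_mem (inv_mem (mul_mem (R.U_le_B hy) (R.h_mem _))) (mul_mem (R.U_le_B hy') (R.h_mem _)))
  obtain rfl := mul_inv_eq_one.1 h1
  have h2 := R.B_unique hy hy' (mul_right_cancel (mul_right_cancel e))
  exact ⟨h2.1, h2.2, rfl⟩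

/-- The points of the doubly transitive action. -/
noncomputable def cosetEquiv : Option R.U ≃ Γ ⧸ R.B :=
  Equiv.ofBijective (fun y => y.elim ((1 : Γ) : Γ ⧸ R.B) fun y => ((y * R.w : Γ) : Γ ⧸ R.B)) ⟨by
    have h1 : ∀ y : R.U, ((1 : Γ) : Γ ⧸ R.B) ≠ (y * R.w : Γ) := fun y e => R.w_not_mem (by
      simpa using mul_mem (inv_mem (R.U_le_B y.2)) (QuotientGroup.eq.1 e))
    rintro (_ | y) (_ | y') e
    · rfl
    · exact absurd e (h1 _)
    · exact absurd e.symm (h1 _)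
    · refine congrArg _ (Subtype.ext (inv_mul_eq_one.1 (R.eq_one_of_conj_mem (mul_mem (inv_mem y.2) y'.2) ?_)))
      simpa [R.w_inv, mul_assoc] using QuotientGroup.eq.1 e, fun y => by
    induction y using QuotientGroup.induction_on with | H g => ?_
    rcases R.exists_coset g with h | ⟨y, hy, b, hb, rfl⟩
    · exact ⟨none, QuotientGroup.eq.2 (by simpa using h)⟩
    · exact ⟨some ⟨y, hy⟩, QuotientGroup.eq.2 (by simpa [mul_assoc] using hb)⟩⟩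

/-- Coordinates on `U`. -/
noncomputable def uEquiv : K × K × K ≃ R.U :=
  Equiv.ofBijective (fun p => ⟨_, R.u_mem p.1 p.2.1 p.2.2⟩) ⟨fun _ _ e => by
    have := R.u_inj (congrArg Subtype.val e)
    exact Prod.ext this.1 (Prod.ext this.2.1 this.2.2), fun ⟨_, t, a, v, rfl⟩ => ⟨(t, a, v), rfl⟩⟩

theorem card_U : Nat.card R.U = Nat.card K ^ 3 := by
  rw [← Nat.card_congr R.uEquiv]; simp [pow_succ, mul_assoc]

theorem card_B : Nat.card R.B = Nat.card K ^ 3 * (Nat.card K - 1) := by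
  rw [← R.card_U, ← Nat.card_units, ← Nat.card_prod]
  refine (Nat.card_congr (Equiv.ofBijective (fun p : R.U × Kˣ => (⟨_, p.1, p.1.2, p.2, rfl⟩ : R.B)) ⟨fun p p' e => ?_,
    fun ⟨_, y, hy, c, rfl⟩ => ⟨(⟨y, hy⟩, c), rfl⟩⟩)).symm
  have := R.B_unique p.1.2 p'.1.2 (congrArg Subtype.val e)
  exact Prod.ext (Subtype.ext this.1) this.2

theorem index_B : R.B.index = Nat.card K ^ 3 + 1 := by
  have := R.fin
  have : Finite R.U := Finite.of_equiv _ R.uEquiv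
  rw [Subgroup.index, ← Nat.card_congr R.cosetEquiv, Finite.card_option, R.card_U]

theorem card_eq : Nat.card Γ = Nat.card K ^ 3 * (Nat.card K - 1) * (Nat.card K ^ 3 + 1) := by
  rw [← R.card_B, ← R.index_B, Subgroup.card_mul_index]

theorem finΓ : Finite Γ := Nat.finite_of_card_ne_zero (by
  have := R.big
  have : Nat.card K - 1 ≠ 0 := by omega
  rw [R.card_eq]; positivity)

theorem index_U : R.U.index = (Nat.card K - 1) * (Nat.card K ^ 3 + 1) := by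
  have h1 := R.U.card_mul_index
  have := R.big
  rw [card_U, card_eq R, mul_assoc] at h1
  exact Nat.eq_of_mul_eq_mul_left (by positivity) h1

theorem isPGroup_U : IsPGroup 3 R.U := IsPGroup.of_card (n := (2 * m + 1) * 3) (by rw [card_U, R.card, pow_mul])

theorem not_dvd_index_U : ¬ 3 ∣ R.U.index := by
  have h1 := R.three_dvd
  have h2 := h1.trans (dvd_pow_self _ three_ne_zero)
  have := R.big
  rw [index_U, Nat.prime_three.dvd_mul]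
  omega

end RG

end Cfsg.Agent.Ree
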