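import Cfsg.Agent.Lib.Ree.Struct

/-! The small Ree groups: the minimal degree of a complex representation. -/

set_option autoImplicit false
set_option linter.unusedSectionVars false

namespace Cfsg.Agent.Ree

section
variable {V : Type*} [AddCommGroup V] [Module ℂ V] [FiniteDimensional ℂ V]

theorem avg_idem {A : Type*} [Group A] [Fintype A] (s : A →* Module.End ℂ V) (a : A) :
    s a * ((Fintype.card A : ℂ)⁻¹ • ∑ x, s x) = (Fintype.card A : ℂ)⁻¹ • ∑ x, s x := by
  rw [mul_smul_comm, Finset.mul_sum, ← Equiv.sum_comp (Equiv.mulLeft a) s]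
  simp

theorem avg_idem' {A : Type*} [Group A] [Fintype A] (s : A →* Module.End ℂ V) :
    IsIdempotentElem ((Fintype.card A : ℂ)⁻¹ • ∑ x, s x) := by
  unfold IsIdempotentElem
  nth_rewrite 1 [smul_mul_assoc]
  rw [Finset.sum_mul]
  simp only [avg_idem, Finset.sum_const, Finset.card_univ]
  rw [← Nat.cast_smul_eq_nsmul ℂ, smul_smul, inv_mul_cancel₀ (by simp), one_smul]

theorem card_dvd_of_trace {A : Type*} [Group A] [Finite A] (s : A →* Module.End ℂ V) {Q : Module.End ℂ V}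
    (hQ : IsIdempotentElem Q) (hc : ∀ a, Commute (s a) Q) (h0 : ∀ a ≠ 1, LinearMap.trace ℂ V (s a * Q) = 0) :
    Nat.card A ∣ Module.finrank ℂ (LinearMap.range Q) := by
  have := Fintype.ofFinite A
  have h1 := (avg_idem' s).mul_of_commute ((Commute.sum_left _ _ _ fun a _ => hc a).smul_left _) hQ
  have h2 := (LinearMap.IsIdempotentElem.isProj_range _ h1).trace
  rw [smul_mul_assoc, map_smul, Finset.sum_mul, map_sum, Finset.sum_eq_single 1 (fun a _ => h0 a) (by simp), map_one,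
    one_mul, (LinearMap.IsIdempotentElem.isProj_range _ hQ).trace, smul_eq_mul, inv_mul_eq_iff_eq_mul₀ (by simp)] at h2
  exact ⟨_, by rw [Nat.card_eq_fintype_card]; exact_mod_cast h2⟩

end

namespace RG

variable {K : Type*} [Field K] {m : ℕ} {Γ : Type*} [Group Γ] (R : RG K m Γ)
include R

/-- The centre of `U`. -/
def zHom : Multiplicative K →* Γ := MonoidHom.mk' (fun c => R.u 0 0 c.toAdd) fun _ _ => (R.z_mul_z ..).symm

/-- The centraliser in `B` of the involution of the torus. -/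
def CB : Subgroup Γ where
  carrier := {g | ∃ b k, g = R.u 0 b 0 * R.h k}
  one_mem' := ⟨0, 1, by simp [u_zero]⟩
  mul_mem' := by
    rintro _ _ ⟨b, k, rfl⟩ ⟨b', k', rfl⟩
    exact ⟨_, k * k', by rw [mul_assoc, ← mul_assoc (R.h k), h_mul_u, map_mul, ← mul_assoc, ← mul_assoc, mul_zero,
      mul_zero, u_mul_y, add_zero, mul_assoc]⟩
  inv_mem' := by
    rintro _ ⟨b, k, rfl⟩
    exact ⟨_, k⁻¹, by rw [mul_inv_rev, y_inv, ← map_inv, h_mul_u, neg_zero, mul_zero, mul_zero]⟩

theorem card_CB : Nat.card R.CB = Nat.card K * (Nat.card K - 1) := by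
  rw [← Nat.card_units, ← Nat.card_prod]
  refine (Nat.card_congr (Equiv.ofBijective (fun p : K × Kˣ => (⟨_, p.1, p.2, rfl⟩ : R.CB)) ⟨fun p p' e => ?_,
    fun ⟨_, b, c, rfl⟩ => ⟨(b, c), rfl⟩⟩)).symm
  have := R.B_unique (R.u_mem ..) (R.u_mem ..) (congrArg Subtype.val e)
  exact Prod.ext (R.u_inj this.1).2.1 this.2

/-- The normaliser of the torus. -/
def N : Subgroup Γ where
  carrier := {g | ∃ k, g = R.h k ∨ g = R.h k * R.w}
  one_mem' := ⟨1, .inl (by simp)⟩
  mul_mem' := by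
    rintro _ _ ⟨k, rfl | rfl⟩ ⟨k', rfl | rfl⟩
    · exact ⟨k * k', .inl (by simp)⟩
    · exact ⟨k * k', .inr (by simp [mul_assoc])⟩
    · exact ⟨k * k'⁻¹, .inr (by rw [mul_assoc, w_mul_h, map_mul, mul_assoc])⟩
    · exact ⟨k * k'⁻¹, .inl (by rw [mul_assoc, ← mul_assoc R.w, w_h_w, map_mul])⟩
  inv_mem' := by
    rintro _ ⟨k, rfl | rfl⟩
    · exact ⟨k⁻¹, .inl (by simp)⟩
    · exact ⟨k, .inr (inv_eq_of_mul_eq_one_right (R.hw_sq k))⟩

theorem card_N : Nat.card R.N = 2 * (Nat.card K - 1) := by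
  have := R.fin
  rw [← Nat.card_units, two_mul, ← Nat.card_sum]
  refine (Nat.card_congr (Equiv.ofBijective (Sum.elim (fun k => (⟨_, k, .inl rfl⟩ : R.N)) fun k => ⟨_, k, .inr rfl⟩)
    ⟨?_, ?_⟩)).symm
  · rintro (k | k) (k' | k') e <;> replace e := congrArg Subtype.val e
    · exact congrArg _ (R.h_inj e)
    · exact (R.hw_not_mem k' ((show R.h k = R.h k' * R.w from e) ▸ R.h_mem k)).elim
    · exact (R.hw_not_mem k ((show R.h k * R.w = R.h k' from e) ▸ R.h_mem k')).elim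
    · exact congrArg _ (R.h_inj (mul_right_cancel e))
  · rintro ⟨_, k, rfl | rfl⟩
    exacts [⟨.inl k, rfl⟩, ⟨.inr k, rfl⟩]

theorem exists_conj_z {g : Γ} (hg : g ∈ R.CB) (h1 : g ≠ 1) (c : K) : ∃ x ∈ R.U, x * g * x⁻¹ = g * R.u 0 0 c := by
  obtain ⟨b, k, rfl⟩ := hg
  by_cases hk : k = 1
  · subst hk
    have hb : b ≠ 0 := by rintro rfl; simp [u_zero] at h1
    exact ⟨R.u (c / b) 0 0, R.u_mem .., by simp [u_conj, u_mul_z, hb]⟩
  · have h2 : 1 - (k : K) ^ 2 * R.Φ k ≠ 0 := fun e => hk (Units.ext (R.w3_eq_one (sub_eq_zero.1 e).symm))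
    refine ⟨R.u 0 0 (k ^ 2 * R.Φ k * c / (1 - (k : K) ^ 2 * R.Φ k)), R.u_mem .., ?_⟩
    rw [z_inv, mul_assoc (R.u 0 0 _), mul_assoc (R.u 0 b 0), mul_assoc (R.u 0 b 0), h_mul_u, h_mul_u]
    simp only [← mul_assoc, mul_zero, z_mul_u, u_mul_z]
    congr 2
    field_simp; ring

variable {V : Type*} [AddCommGroup V] [Module ℂ V] [FiniteDimensional ℂ V]

theorem le_finrank (r : Γ →* Module.End ℂ V) (hr : ∃ g, r g ≠ 1) :
    Nat.card K ^ 2 - Nat.card K + 1 ≤ Module.finrank ℂ V := by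
  have := R.fin
  have := R.finΓ
  have := Fintype.ofFinite K
  set P := (Fintype.card (Multiplicative K) : ℂ)⁻¹ • ∑ x, (r.comp R.zHom) x with hP
  have h1 : IsIdempotentElem P := avg_idem' _
  have h2 : ∀ c, r (R.u 0 0 c) * P = P := fun c => avg_idem (r.comp R.zHom) (.ofAdd c)
  have h3 : ∀ g ∈ R.B, Commute (r g) P := by
    rintro _ ⟨_, ⟨a, b, c, rfl⟩, k, rfl⟩
    rw [map_mul]
    refine Commute.smul_right (Commute.mul_left (Commute.sum_right _ _ _ fun x _ => Commute.map ?_ r) ?_) _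
    · simp [Commute, SemiconjBy, zHom, u_mul_z, z_mul_u, add_comm]
    · have h4 : (k : K) ^ 2 * R.Φ k ≠ 0 := mul_ne_zero (by simp) (R.Φ_ne k.ne_zero)
      rw [Commute, SemiconjBy, Finset.mul_sum, Finset.sum_mul]
      refine Fintype.sum_equiv (Multiplicative.toAdd.trans ((Equiv.mulLeft₀ _ h4).trans Multiplicative.ofAdd)) _ _
        fun x => ?_
      simp [zHom, ← map_mul, h_mul_u]
  have h4 : ∀ g ∈ R.B, Commute (r g) (1 - P) := fun g hg => (Commute.one_right _).sub_right (h3 g hg)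
  have h5 : ∀ g ∈ R.CB, g ≠ 1 → LinearMap.trace ℂ V (r g * (1 - P)) = 0 := fun g hg hg1 => by
    have h6 : ∀ c : Multiplicative K, LinearMap.trace ℂ V (r g * (r.comp R.zHom) c * (1 - P)) =
        LinearMap.trace ℂ V (r g * (1 - P)) := fun c => by
      obtain ⟨x, hx, e⟩ := R.exists_conj_z hg hg1 c.toAdd
      change LinearMap.trace ℂ V (r g * r (R.u 0 0 c.toAdd) * _) = _
      rw [← map_mul, ← e, map_mul r, map_mul r, mul_assoc, mul_assoc, LinearMap.trace_mul_comm, mul_assoc,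
        mul_assoc, ← (h4 x (R.U_le_B hx)).eq, ← mul_assoc (r x⁻¹), ← map_mul, inv_mul_cancel, map_one, one_mul]
    have h7 : LinearMap.trace ℂ V (r g * P * (1 - P)) = LinearMap.trace ℂ V (r g * (1 - P)) := by
      nth_rewrite 1 [hP]
      rw [mul_smul_comm, smul_mul_assoc, map_smul, Finset.mul_sum, Finset.sum_mul, map_sum]
      simp only [h6, Finset.sum_const, Finset.card_univ, nsmul_eq_mul, smul_eq_mul]
      rw [inv_mul_cancel_left₀ (by simp)]
    rw [← h7, mul_assoc, h1.mul_one_sub_self, mul_zero, map_zero]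
  have hCB : R.CB ≤ R.B := by rintro _ ⟨b, k, rfl⟩; exact ⟨_, R.u_mem .., k, rfl⟩
  have h6 := card_dvd_of_trace (r.comp R.CB.subtype) h1.one_sub (fun a => h4 _ (hCB a.2))
    fun a ha => h5 _ a.2 fun e => ha (Subtype.ext e)
  have h7 : 0 < Module.finrank ℂ (LinearMap.range (1 - P)) := by
    rw [Nat.pos_iff_ne_zero, Ne, Submodule.finrank_eq_zero, LinearMap.range_eq_bot, sub_eq_zero]
    intro e
    have h8 : r.toHomUnits.ker = ⊤ := R.eq_top_of_normal fun h => by
      have : R.u 0 0 1 ∈ r.toHomUnits.ker := Units.ext (by simpa [← e] using h2 1)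
      simp [h, u_eq_one] at this
    obtain ⟨g, hg⟩ := hr
    have h5 : g ∈ r.toHomUnits.ker := by rw [h8]; trivial
    exact hg (congrArg Units.val h5)
  have h8 := Nat.le_of_dvd h7 h6
  have h9 := Submodule.finrank_le (LinearMap.range (1 - P))
  rw [card_CB, Nat.mul_sub_one, ← sq] at h8
  refine Nat.succ_le_of_lt (lt_of_le_of_ne (h8.trans h9) fun e => ?_)
  have h10 : P = 0 := by
    ext v
    obtain ⟨v, rfl⟩ := (Submodule.eq_top_of_finrank_eq (le_antisymm h9 (e ▸ h8))).symm ▸ Submodule.mem_top (x := v)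
    exact congrArg (· v) h1.mul_one_sub_self
  rw [h10, sub_zero] at h5
  have h11 := card_dvd_of_trace (r.comp R.N.subtype) IsIdempotentElem.one (fun a => Commute.one_right _) (by
    rintro ⟨_, k, rfl | rfl⟩ h
    · exact h5 _ ⟨0, k, by simp [u_zero]⟩ fun e => h (Subtype.ext e)
    · obtain ⟨x, hx⟩ := isConj_iff.1 (R.isConj_i_hw k)
      have := h5 (R.h (-1)) ⟨0, -1, by simp [u_zero]⟩ (by simpa [h_eq_one] using R.neg_one_ne)
      change LinearMap.trace ℂ V (r (R.h k * R.w) * 1) = 0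
      rw [← hx, mul_one, map_mul, LinearMap.trace_mul_comm, ← map_mul, inv_mul_cancel_left, ← this, mul_one])
  rw [card_N, Module.End.one_eq_id, LinearMap.range_id, finrank_top, ← e, sq, ← Nat.mul_sub_one,
    Nat.mul_dvd_mul_iff_right (by have := R.big; omega), R.card] at h11
  exact absurd (Nat.prime_two.dvd_of_dvd_pow h11) (by norm_num)

end RG

end Cfsg.Agent.Ree
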