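import Cfsg.Agent.Lib.Chev.Adjoint2

/-! The seven-dimensional representation of `G₂(K)` in characteristic three (the ideal spanned by the short roots). -/

set_option autoImplicit false

namespace Cfsg.Agent.Ree

open Cfsg.Lie Cfsg.Agent.Chev Cfsg.Agent.ChevM Matrix

/-- The entries of `x_r(t)` as lists of monomials. -/
def cl (D : ChevalleyDatum) (r : Fin D.nroots) : D.Idx → D.Idx → List (ℕ × ℤ)
  | Sum.inl i', Sum.inl i => if i' = i then [(0, 1)] else []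
  | Sum.inr u, Sum.inl i => if u = r then [(1, -((D.cartanSR.getD i.val #[]).getD r.val 0))] else []
  | Sum.inl i, Sum.inr s =>
    if s = r then [] else if s.val = D.negIdx.getD r.val 0 then [(1, (D.coroot.getD r.val #[]).getD i.val 0)] else []
  | Sum.inr u, Sum.inr s =>
    if s = r then (if u = r then [(0, 1)] else []) else if s.val = D.negIdx.getD r.val 0 then
      (if u = s then [(0, 1)] else if u = r then [(2, -1)] else [])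
    else (if u = s then [(0, 1)] else []) ++ D.chainCoeff r.val s.val u.val

/-- The coefficient of `t ^ k`. -/
def cf (l : List (ℕ × ℤ)) (k : ℕ) : ℤ := (l.map fun km => if km.1 = k then km.2 else 0).sum

variable {K : Type*} [Field K]

theorem xMat_eq_cl (D : ChevalleyDatum) (r : Fin D.nroots) (t : K) (a b : D.Idx) :
    D.xMat K r t a b = ((cl D r a b).map fun km => (km.2 : K) * t ^ km.1).sum := by
  rcases a with i | u <;> rcases b with j | s <;> simp only [ChevalleyDatum.xMat, cl, of_apply] <;> split_ifs <;> simp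

theorem sum_eq_cf (t : K) (l : List (ℕ × ℤ)) (h : ∀ km ∈ l, km.1 < 4) :
    (l.map fun km => (km.2 : K) * t ^ km.1).sum = cf l 0 + cf l 1 * t + cf l 2 * t ^ 2 + cf l 3 * t ^ 3 := by
  induction l with
  | nil => simp [cf]
  | cons a l ih =>
    obtain ⟨k, c⟩ := a
    have h1 : k < 4 := h _ List.mem_cons_self
    rw [List.map_cons, List.sum_cons, ih fun km hk => h km (List.mem_cons_of_mem _ hk)]
    simp only [cf, List.map_cons, List.sum_cons]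
    interval_cases k <;> simp <;> ring

/-- The coordinates of the short roots (and the short coroot), by decreasing height. -/
def ix : Fin 7 → chevG2.Idx :=
  ![.inr (9 : Fin 12), .inr (8 : Fin 12), .inr (7 : Fin 12), .inl (0 : Fin 2), .inr (4 : Fin 12), .inr (3 : Fin 12),
    .inr (2 : Fin 12)]

/-- The other coordinates. -/
def iy : Fin 7 → chevG2.Idx :=
  ![.inr (11 : Fin 12), .inr (10 : Fin 12), .inr (6 : Fin 12), .inl (1 : Fin 2), .inr (5 : Fin 12), .inr (1 : Fin 12),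
    .inr (0 : Fin 12)]

/-- The coordinates split into the two families. -/
noncomputable def ixy : Fin 7 ⊕ Fin 7 ≃ chevG2.Idx := Equiv.ofBijective (Sum.elim ix iy) (by decide +kernel)

/-- `A` and `B` are the coefficients of `t` and `t ^ 2` in `x_r(t)`. -/
def Chk (r : Fin chevG2.nroots) (A B : Matrix (Fin 7) (Fin 7) ℤ) : Prop :=
  ∀ i j : Fin 7, (∀ km ∈ cl chevG2 r (ix i) (ix j), km.1 < 4) ∧
    (cf (cl chevG2 r (ix i) (ix j)) 0 - if i = j then 1 else 0) % 3 = 0 ∧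
    (cf (cl chevG2 r (ix i) (ix j)) 1 - A i j) % 3 = 0 ∧
    (cf (cl chevG2 r (ix i) (ix j)) 2 - B i j) % 3 = 0 ∧ cf (cl chevG2 r (ix i) (ix j)) 3 % 3 = 0

instance (r : Fin chevG2.nroots) (A B : Matrix (Fin 7) (Fin 7) ℤ) : Decidable (Chk r A B) := by
  unfold Chk; infer_instance

theorem chk_inv : ∀ (r : Fin 12) (i j : Fin 7), ∀ km ∈ cl chevG2 r (iy i) (ix j), km.2 % 3 = 0 := by
  decide +kernel

variable [CharP K 3]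

theorem cast_eq_zero {n : ℤ} (h : n % 3 = 0) : (n : K) = 0 :=
  (CharP.intCast_eq_zero_iff K 3 n).2 (Int.dvd_of_emod_eq_zero h)

theorem cast_eq {n m : ℤ} (h : (n - m) % 3 = 0) : (n : K) = m := by
  have := cast_eq_zero (K := K) h
  rwa [Int.cast_sub, sub_eq_zero] at this

theorem inv_mat (g : chevG2.group K) (i j : Fin 7) : mat g (iy i) (ix j) = 0 := by
  induction g using group_induction generalizing i j with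
  | h1 => rw [mat_one, one_apply_ne]; exact fun h => by simpa using ixy.injective (a₁ := .inr i) (a₂ := .inl j) h
  | hx r hr t g ih =>
    rw [mat_mul, mul_apply, ← ixy.sum_comp, Fintype.sum_sum_type]
    change ∑ k, _ * mat g (ix k) _ + ∑ k, _ * mat g (iy k) _ = 0
    simp only [ih, mul_zero, Finset.sum_const_zero, add_zero]
    refine Finset.sum_eq_zero fun k _ => mul_eq_zero_of_left ?_ _
    change chevG2.x K r t (iy i) (ix k) = 0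
    rw [ChevalleyDatum.x, dif_pos hr, xMat_eq_cl]
    refine List.sum_eq_zero fun a ha => ?_
    obtain ⟨km, h, rfl⟩ := List.mem_map.1 ha
    rw [cast_eq_zero (chk_inv ⟨r, hr⟩ i k km h), zero_mul]

/-- The seven-dimensional representation. -/
def ρ : chevG2.group K →* Matrix (Fin 7) (Fin 7) K where
  toFun g := (mat g).submatrix ix ix
  map_one' := by
    rw [mat_one, submatrix_one]; exact fun i j h => by simpa using ixy.injective (a₁ := .inl i) (a₂ := .inl j) h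
  map_mul' g h := by
    ext i j
    rw [submatrix_apply, mat_mul, mul_apply, mul_apply, ← ixy.sum_comp, Fintype.sum_sum_type]
    change ∑ k, _ * mat h (ix k) _ + ∑ k, _ * mat h (iy k) _ = _
    simp only [inv_mat, mul_zero, Finset.sum_const_zero, add_zero]
    rfl

theorem ρ_xG (r : ℕ) (hr : r < chevG2.nroots) (t : K) {A B : Matrix (Fin 7) (Fin 7) ℤ} (h : Chk ⟨r, hr⟩ A B) :
    ρ (xG chevG2 K r t) = of fun i j => (if i = j then 1 else 0) + A i j * t + B i j * t ^ 2 := by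
  ext i j
  change chevG2.x K r t (ix i) (ix j) = _
  obtain ⟨h0, h1, h2, h3, h4⟩ := h i j
  rw [ChevalleyDatum.x, dif_pos hr, xMat_eq_cl, sum_eq_cf t _ h0, cast_eq h1, cast_eq h2,
    cast_eq h3, cast_eq_zero h4]
  simp

theorem ρ_fm {K' : Type*} [Field K'] [CharP K' 3] (φ : K →+* K') (g : chevG2.group K) :
    ρ (fm chevG2 φ g) = (ρ g).map φ := rfl

theorem ρ_x0 (t : K) : ρ (xG chevG2 K 0 t) =
    !![1, 0, 0, 0, 0, 0, 0;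
    0, 1, 0, 0, 0, 0, 0;
    0, 0, 1, 0, 0, 0, 0;
    0, 0, 0, 1, 0, 0, 0;
    0, 0, 0, 0, 1, 0, 0;
    -t, 0, 0, 0, 0, 1, 0;
    0, t, 0, 0, 0, 0, 1] := by
  rw [ρ_xG 0 (by decide) t (A := !![0, 0, 0, 0, 0, 0, 0; 0, 0, 0, 0, 0, 0, 0; 0, 0, 0, 0, 0, 0, 0; 0, 0, 0, 0, 0, 0, 0; 0, 0, 0, 0, 0, 0, 0; -1, 0, 0, 0, 0, 0, 0; 0, 1, 0, 0, 0, 0, 0])
    (B := !![0, 0, 0, 0, 0, 0, 0; 0, 0, 0, 0, 0, 0, 0; 0, 0, 0, 0, 0, 0, 0; 0, 0, 0, 0, 0, 0, 0; 0, 0, 0, 0, 0, 0, 0; 0, 0, 0, 0, 0, 0, 0; 0, 0, 0, 0, 0, 0, 0]) (by decide +kernel)]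
  ext i j; fin_cases i <;> fin_cases j <;> simp

theorem ρ_x1 (t : K) : ρ (xG chevG2 K 1 t) =
    !![1, 0, 0, 0, 0, 0, 0;
    0, 1, 0, 0, 0, 0, 0;
    0, 0, 1, 0, 0, 0, 0;
    0, 0, 0, 1, 0, 0, 0;
    -t, 0, 0, 0, 1, 0, 0;
    0, 0, 0, 0, 0, 1, 0;
    0, 0, t, 0, 0, 0, 1] := by
  rw [ρ_xG 1 (by decide) t (A := !![0, 0, 0, 0, 0, 0, 0; 0, 0, 0, 0, 0, 0, 0; 0, 0, 0, 0, 0, 0, 0; 0, 0, 0, 0, 0, 0, 0; -1, 0, 0, 0, 0, 0, 0; 0, 0, 0, 0, 0, 0, 0; 0, 0, 1, 0, 0, 0, 0])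
    (B := !![0, 0, 0, 0, 0, 0, 0; 0, 0, 0, 0, 0, 0, 0; 0, 0, 0, 0, 0, 0, 0; 0, 0, 0, 0, 0, 0, 0; 0, 0, 0, 0, 0, 0, 0; 0, 0, 0, 0, 0, 0, 0; 0, 0, 0, 0, 0, 0, 0]) (by decide +kernel)]
  ext i j; fin_cases i <;> fin_cases j <;> simp

theorem ρ_x2 (t : K) : ρ (xG chevG2 K 2 t) =
    !![1, 0, 0, 0, 0, 0, 0;
    0, 1, 0, 0, 0, 0, 0;
    0, 0, 1, 0, 0, 0, 0;
    t, 0, 0, 1, 0, 0, 0;
    0, -t, 0, 0, 1, 0, 0;
    0, 0, t, 0, 0, 1, 0;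
    -t ^ 2, 0, 0, t, 0, 0, 1] := by
  rw [ρ_xG 2 (by decide) t (A := !![0, 0, 0, 0, 0, 0, 0; 0, 0, 0, 0, 0, 0, 0; 0, 0, 0, 0, 0, 0, 0; 1, 0, 0, 0, 0, 0, 0; 0, -1, 0, 0, 0, 0, 0; 0, 0, 1, 0, 0, 0, 0; 0, 0, 0, 1, 0, 0, 0])
    (B := !![0, 0, 0, 0, 0, 0, 0; 0, 0, 0, 0, 0, 0, 0; 0, 0, 0, 0, 0, 0, 0; 0, 0, 0, 0, 0, 0, 0; 0, 0, 0, 0, 0, 0, 0; 0, 0, 0, 0, 0, 0, 0; -1, 0, 0, 0, 0, 0, 0]) (by decide +kernel)]
  ext i j; fin_cases i <;> fin_cases j <;> simp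

theorem ρ_x3 (t : K) : ρ (xG chevG2 K 3 t) =
    !![1, 0, 0, 0, 0, 0, 0;
    0, 1, 0, 0, 0, 0, 0;
    -t, 0, 1, 0, 0, 0, 0;
    0, -t, 0, 1, 0, 0, 0;
    0, 0, 0, 0, 1, 0, 0;
    0, -t ^ 2, 0, -t, 0, 1, 0;
    0, 0, 0, 0, t, 0, 1] := by
  rw [ρ_xG 3 (by decide) t (A := !![0, 0, 0, 0, 0, 0, 0; 0, 0, 0, 0, 0, 0, 0; -1, 0, 0, 0, 0, 0, 0; 0, -1, 0, 0, 0, 0, 0; 0, 0, 0, 0, 0, 0, 0; 0, 0, 0, -1, 0, 0, 0; 0, 0, 0, 0, 1, 0, 0])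
    (B := !![0, 0, 0, 0, 0, 0, 0; 0, 0, 0, 0, 0, 0, 0; 0, 0, 0, 0, 0, 0, 0; 0, 0, 0, 0, 0, 0, 0; 0, 0, 0, 0, 0, 0, 0; 0, -1, 0, 0, 0, 0, 0; 0, 0, 0, 0, 0, 0, 0]) (by decide +kernel)]
  ext i j; fin_cases i <;> fin_cases j <;> simp

theorem ρ_x4 (t : K) : ρ (xG chevG2 K 4 t) =
    !![1, 0, 0, 0, 0, 0, 0;
    t, 1, 0, 0, 0, 0, 0;
    0, 0, 1, 0, 0, 0, 0;
    0, 0, -t, 1, 0, 0, 0;
    0, 0, -t ^ 2, -t, 1, 0, 0;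
    0, 0, 0, 0, 0, 1, 0;
    0, 0, 0, 0, 0, -t, 1] := by
  rw [ρ_xG 4 (by decide) t (A := !![0, 0, 0, 0, 0, 0, 0; 1, 0, 0, 0, 0, 0, 0; 0, 0, 0, 0, 0, 0, 0; 0, 0, -1, 0, 0, 0, 0; 0, 0, 0, -1, 0, 0, 0; 0, 0, 0, 0, 0, 0, 0; 0, 0, 0, 0, 0, -1, 0])
    (B := !![0, 0, 0, 0, 0, 0, 0; 0, 0, 0, 0, 0, 0, 0; 0, 0, 0, 0, 0, 0, 0; 0, 0, 0, 0, 0, 0, 0; 0, 0, -1, 0, 0, 0, 0; 0, 0, 0, 0, 0, 0, 0; 0, 0, 0, 0, 0, 0, 0]) (by decide +kernel)]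
  ext i j; fin_cases i <;> fin_cases j <;> simp

theorem ρ_x5 (t : K) : ρ (xG chevG2 K 5 t) =
    !![1, 0, 0, 0, 0, 0, 0;
    0, 1, 0, 0, 0, 0, 0;
    0, t, 1, 0, 0, 0, 0;
    0, 0, 0, 1, 0, 0, 0;
    0, 0, 0, 0, 1, 0, 0;
    0, 0, 0, 0, -t, 1, 0;
    0, 0, 0, 0, 0, 0, 1] := by
  rw [ρ_xG 5 (by decide) t (A := !![0, 0, 0, 0, 0, 0, 0; 0, 0, 0, 0, 0, 0, 0; 0, 1, 0, 0, 0, 0, 0; 0, 0, 0, 0, 0, 0, 0; 0, 0, 0, 0, 0, 0, 0; 0, 0, 0, 0, -1, 0, 0; 0, 0, 0, 0, 0, 0, 0])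
    (B := !![0, 0, 0, 0, 0, 0, 0; 0, 0, 0, 0, 0, 0, 0; 0, 0, 0, 0, 0, 0, 0; 0, 0, 0, 0, 0, 0, 0; 0, 0, 0, 0, 0, 0, 0; 0, 0, 0, 0, 0, 0, 0; 0, 0, 0, 0, 0, 0, 0]) (by decide +kernel)]
  ext i j; fin_cases i <;> fin_cases j <;> simp

theorem ρ_x6 (t : K) : ρ (xG chevG2 K 6 t) =
    !![1, 0, 0, 0, 0, 0, 0;
    0, 1, t, 0, 0, 0, 0;
    0, 0, 1, 0, 0, 0, 0;
    0, 0, 0, 1, 0, 0, 0;
    0, 0, 0, 0, 1, -t, 0;
    0, 0, 0, 0, 0, 1, 0;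
    0, 0, 0, 0, 0, 0, 1] := by
  rw [ρ_xG 6 (by decide) t (A := !![0, 0, 0, 0, 0, 0, 0; 0, 0, 1, 0, 0, 0, 0; 0, 0, 0, 0, 0, 0, 0; 0, 0, 0, 0, 0, 0, 0; 0, 0, 0, 0, 0, -1, 0; 0, 0, 0, 0, 0, 0, 0; 0, 0, 0, 0, 0, 0, 0])
    (B := !![0, 0, 0, 0, 0, 0, 0; 0, 0, 0, 0, 0, 0, 0; 0, 0, 0, 0, 0, 0, 0; 0, 0, 0, 0, 0, 0, 0; 0, 0, 0, 0, 0, 0, 0; 0, 0, 0, 0, 0, 0, 0; 0, 0, 0, 0, 0, 0, 0]) (by decide +kernel)]
  ext i j; fin_cases i <;> fin_cases j <;> simp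

theorem ρ_x7 (t : K) : ρ (xG chevG2 K 7 t) =
    !![1, t, 0, 0, 0, 0, 0;
    0, 1, 0, 0, 0, 0, 0;
    0, 0, 1, t, -t ^ 2, 0, 0;
    0, 0, 0, 1, t, 0, 0;
    0, 0, 0, 0, 1, 0, 0;
    0, 0, 0, 0, 0, 1, -t;
    0, 0, 0, 0, 0, 0, 1] := by
  rw [ρ_xG 7 (by decide) t (A := !![0, 1, 0, 0, 0, 0, 0; 0, 0, 0, 0, 0, 0, 0; 0, 0, 0, 1, 0, 0, 0; 0, 0, 0, 0, 1, 0, 0; 0, 0, 0, 0, 0, 0, 0; 0, 0, 0, 0, 0, 0, -1; 0, 0, 0, 0, 0, 0, 0])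
    (B := !![0, 0, 0, 0, 0, 0, 0; 0, 0, 0, 0, 0, 0, 0; 0, 0, 0, 0, -1, 0, 0; 0, 0, 0, 0, 0, 0, 0; 0, 0, 0, 0, 0, 0, 0; 0, 0, 0, 0, 0, 0, 0; 0, 0, 0, 0, 0, 0, 0]) (by decide +kernel)]
  ext i j; fin_cases i <;> fin_cases j <;> simp

theorem ρ_x8 (t : K) : ρ (xG chevG2 K 8 t) =
    !![1, 0, -t, 0, 0, 0, 0;
    0, 1, 0, t, 0, -t ^ 2, 0;
    0, 0, 1, 0, 0, 0, 0;
    0, 0, 0, 1, 0, t, 0;
    0, 0, 0, 0, 1, 0, t;
    0, 0, 0, 0, 0, 1, 0;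
    0, 0, 0, 0, 0, 0, 1] := by
  rw [ρ_xG 8 (by decide) t (A := !![0, 0, -1, 0, 0, 0, 0; 0, 0, 0, 1, 0, 0, 0; 0, 0, 0, 0, 0, 0, 0; 0, 0, 0, 0, 0, 1, 0; 0, 0, 0, 0, 0, 0, 1; 0, 0, 0, 0, 0, 0, 0; 0, 0, 0, 0, 0, 0, 0])
    (B := !![0, 0, 0, 0, 0, 0, 0; 0, 0, 0, 0, 0, -1, 0; 0, 0, 0, 0, 0, 0, 0; 0, 0, 0, 0, 0, 0, 0; 0, 0, 0, 0, 0, 0, 0; 0, 0, 0, 0, 0, 0, 0; 0, 0, 0, 0, 0, 0, 0]) (by decide +kernel)]
  ext i j; fin_cases i <;> fin_cases j <;> simp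

theorem ρ_x9 (t : K) : ρ (xG chevG2 K 9 t) =
    !![1, 0, 0, -t, 0, 0, -t ^ 2;
    0, 1, 0, 0, -t, 0, 0;
    0, 0, 1, 0, 0, t, 0;
    0, 0, 0, 1, 0, 0, -t;
    0, 0, 0, 0, 1, 0, 0;
    0, 0, 0, 0, 0, 1, 0;
    0, 0, 0, 0, 0, 0, 1] := by
  rw [ρ_xG 9 (by decide) t (A := !![0, 0, 0, -1, 0, 0, 0; 0, 0, 0, 0, -1, 0, 0; 0, 0, 0, 0, 0, 1, 0; 0, 0, 0, 0, 0, 0, -1; 0, 0, 0, 0, 0, 0, 0; 0, 0, 0, 0, 0, 0, 0; 0, 0, 0, 0, 0, 0, 0])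
    (B := !![0, 0, 0, 0, 0, 0, -1; 0, 0, 0, 0, 0, 0, 0; 0, 0, 0, 0, 0, 0, 0; 0, 0, 0, 0, 0, 0, 0; 0, 0, 0, 0, 0, 0, 0; 0, 0, 0, 0, 0, 0, 0; 0, 0, 0, 0, 0, 0, 0]) (by decide +kernel)]
  ext i j; fin_cases i <;> fin_cases j <;> simp

theorem ρ_x10 (t : K) : ρ (xG chevG2 K 10 t) =
    !![1, 0, 0, 0, -t, 0, 0;
    0, 1, 0, 0, 0, 0, 0;
    0, 0, 1, 0, 0, 0, t;
    0, 0, 0, 1, 0, 0, 0;
    0, 0, 0, 0, 1, 0, 0;
    0, 0, 0, 0, 0, 1, 0;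
    0, 0, 0, 0, 0, 0, 1] := by
  rw [ρ_xG 10 (by decide) t (A := !![0, 0, 0, 0, -1, 0, 0; 0, 0, 0, 0, 0, 0, 0; 0, 0, 0, 0, 0, 0, 1; 0, 0, 0, 0, 0, 0, 0; 0, 0, 0, 0, 0, 0, 0; 0, 0, 0, 0, 0, 0, 0; 0, 0, 0, 0, 0, 0, 0])
    (B := !![0, 0, 0, 0, 0, 0, 0; 0, 0, 0, 0, 0, 0, 0; 0, 0, 0, 0, 0, 0, 0; 0, 0, 0, 0, 0, 0, 0; 0, 0, 0, 0, 0, 0, 0; 0, 0, 0, 0, 0, 0, 0; 0, 0, 0, 0, 0, 0, 0]) (by decide +kernel)]
  ext i j; fin_cases i <;> fin_cases j <;> simp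

theorem ρ_x11 (t : K) : ρ (xG chevG2 K 11 t) =
    !![1, 0, 0, 0, 0, -t, 0;
    0, 1, 0, 0, 0, 0, t;
    0, 0, 1, 0, 0, 0, 0;
    0, 0, 0, 1, 0, 0, 0;
    0, 0, 0, 0, 1, 0, 0;
    0, 0, 0, 0, 0, 1, 0;
    0, 0, 0, 0, 0, 0, 1] := by
  rw [ρ_xG 11 (by decide) t (A := !![0, 0, 0, 0, 0, -1, 0; 0, 0, 0, 0, 0, 0, 1; 0, 0, 0, 0, 0, 0, 0; 0, 0, 0, 0, 0, 0, 0; 0, 0, 0, 0, 0, 0, 0; 0, 0, 0, 0, 0, 0, 0; 0, 0, 0, 0, 0, 0, 0])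
    (B := !![0, 0, 0, 0, 0, 0, 0; 0, 0, 0, 0, 0, 0, 0; 0, 0, 0, 0, 0, 0, 0; 0, 0, 0, 0, 0, 0, 0; 0, 0, 0, 0, 0, 0, 0; 0, 0, 0, 0, 0, 0, 0; 0, 0, 0, 0, 0, 0, 0]) (by decide +kernel)]
  ext i j; fin_cases i <;> fin_cases j <;> simp

theorem ht_ix : ∀ i j : Fin 7, j < i → RSys.htv (rcI chevG2 (ix i)) < RSys.htv (rcI chevG2 (ix j)) + 0 := by
  decide +kernel

theorem ρ_lower {g : chevG2.group K} (hg : g ∈ (PG chevG2 K).B) {i j : Fin 7} (h : j < i) : ρ g i j = 0 :=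
  (B_le_btSub (F := K) RSys.htv (fun _ hr => hr.ht_pos.le) hg).1 _ _ (ht_ix i j h)

theorem ρ_injective : Function.Injective (ρ : chevG2.group K → _) := by
  have hi : ∀ i : Fin 2, i = 0 ∨ i = 1 := by decide
  have hs : ∀ (i : Fin chevG2.rank) (t : K), (∀ a b, b < a → ρ (xG chevG2 K ((rs chevG2).neg ((rs chevG2).simple i) :
      Fin chevG2.nroots) t) a b = 0) → t = 0 := fun i t h => by
    rcases hi i with rfl | rfl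
    · have := h 1 0 (by decide)
      rw [show (((rs chevG2).neg ((rs chevG2).simple (0 : Fin 2)) : Fin chevG2.nroots) : ℕ) = 4 by decide, ρ_x4] at this
      simpa using this
    · have := h 2 1 (by decide)
      rw [show (((rs chevG2).neg ((rs chevG2).simple (1 : Fin 2)) : Fin chevG2.nroots) : ℕ) = 5 by decide, ρ_x5] at this
      simpa using this
  have h1 : (ρ.toHomUnits : chevG2.group K →* _).ker ≤ (PG chevG2 K).B := by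
    have h2 := (nondeg chevG2 K).eq_PJ_of_B_le (K := (PG chevG2 K).B ⊔ (ρ.toHomUnits : chevG2.group K →* _).ker)
      le_sup_left (fun g _ => mem_full g)
    generalize {i | (PG chevG2 K).n i ∈ (PG chevG2 K).B ⊔ (ρ.toHomUnits : chevG2.group K →* _).ker} = J at h2
    obtain rfl : J = ∅ := Set.eq_empty_of_forall_notMem fun i hi => one_ne_zero (hs i 1 fun a b hab => by
      have h3 := (PG chevG2 K).X_le_PJ (RSys.inSub_neg.2 (RSys.inSub_simple.2 hi)) (xG_mem_X _ (1 : K))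
      rw [← h2, ← SetLike.mem_coe, Subgroup.mul_normal] at h3
      obtain ⟨x, hx, y, hy, e⟩ := h3
      have h4 : ρ y = 1 := congrArg Units.val hy
      rw [← e, map_mul, h4, mul_one]
      exact ρ_lower hx hab)
    rw [PreRGD.PJ_empty] at h2
    exact le_sup_right.trans h2.le
  rw [injective_iff_map_eq_one]
  intro g hg
  have h2 : g ∈ (ρ.toHomUnits : chevG2.group K →* _).ker := Units.ext hg
  obtain ⟨a, rfl⟩ := mem_H_iff.1 ((nondeg chevG2 K).mem_H_of_mem_B_Bm (h1 h2)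
    ((PG chevG2 K).mem_Bm_iff.2 (h1 (Subgroup.Normal.conj_mem inferInstance _ h2 _))))
  refine eq_one_of_mem_H_of_commute (hG_mem_H a) fun i => ⟨1, one_ne_zero, ?_⟩
  have h3 := hG_conj_xG a ((rs chevG2).simple i) (1 : K)
  have h4 := congrArg ρ h3
  have h5 : ρ (hG chevG2 a)⁻¹ = 1 := congrArg Units.val (inv_mem h2)
  rw [map_mul, map_mul, hg, h5, one_mul, mul_one] at h4
  have h6 : (chi chevG2 a ((rs chevG2).simple i) : K) * 1 = 1 := by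
    generalize (chi chevG2 a ((rs chevG2).simple i) : K) * 1 = c at h4
    rcases hi i with rfl | rfl
    · rw [show (((rs chevG2).simple (0 : Fin 2) : Fin chevG2.nroots) : ℕ) = 7 by decide, ρ_x7, ρ_x7] at h4
      simpa using (congrFun (congrFun h4 0) 1).symm
    · rw [show (((rs chevG2).simple (1 : Fin 2) : Fin chevG2.nroots) : ℕ) = 6 by decide, ρ_x6, ρ_x6] at h4
      simpa using (congrFun (congrFun h4 1) 2).symm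
  rw [h6, mul_inv_eq_iff_eq_mul] at h3
  exact h3

end Cfsg.Agent.Ree
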