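import Cfsg.Agent.Lib.Ree.Basic

/-! The small Ree groups: generation, simplicity, centralisers in the Borel subgroup. -/

set_option autoImplicit false
set_option linter.unusedSectionVars false

namespace Cfsg.Agent.Ree.RG

variable {K : Type*} [Field K] {m : ℕ} {Γ : Type*} [Group Γ] (R : RG K m Γ)
include R

theorem z_mul_z (c c' : K) : R.u 0 0 c * R.u 0 0 c' = R.u 0 0 (c + c') := by simp [u_mul]

theorem u_mul_z (a b c c' : K) : R.u a b c * R.u 0 0 c' = R.u a b (c + c') := by simp [u_mul]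

theorem z_mul_u (a b c c' : K) : R.u 0 0 c' * R.u a b c = R.u a b (c' + c) := by simp [u_mul]

theorem z_inv (c : K) : (R.u 0 0 c)⁻¹ = R.u 0 0 (-c) := by simp [u_inv]

theorem y_inv (b c : K) : (R.u 0 b c)⁻¹ = R.u 0 (-b) (-c) := by simp [u_inv]

theorem u_mul_y (a b c b' c' : K) : R.u a b c * R.u 0 b' c' = R.u a (b + b') (c + c') := by simp [u_mul]

theorem U_le_of_inv {M : Subgroup Γ} (hM : ∀ k, ∀ g ∈ M, R.h k * g * (R.h k)⁻¹ ∈ M) {a b c : K} (ha : a ≠ 0)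
    (h : R.u a b c ∈ M) : R.U ≤ M := by
  have := R.char
  have hM' : ∀ (k : Kˣ) {a b c}, R.u a b c ∈ M → R.u (k * a) (k * R.Φ k * b) (k ^ 2 * R.Φ k * c) ∈ M :=
    fun k _ _ _ h => R.h_conj .. ▸ hM k _ h
  obtain ⟨k, -, hk⟩ := R.exists_unit
  obtain ⟨b0, c0, hb0, h1⟩ : ∃ b0 c0, b0 ≠ 0 ∧ R.u 0 b0 c0 ∈ M := by
    have h2 := mul_mem (mul_mem (mul_mem (hM' k h) h) (inv_mem (hM' k h))) (inv_mem h)
    rw [u_conj, u_inv, u_mul, add_neg_cancel] at h2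
    refine ⟨_, _, fun e => mul_ne_zero (mul_ne_zero ha (R.Φ_ne ha)) (sub_ne_zero.2 hk) ?_, h2⟩
    simp only [map_mul, map_neg] at e
    linear_combination e
  have h2 : ∀ c, R.u 0 0 c ∈ M := fun c => by
    by_cases hc : c = 0
    · rw [hc, u_zero]; exact one_mem _
    have h3 := mul_mem (mul_mem (mul_mem h h1) (inv_mem h)) (inv_mem h1)
    rw [u_conj, y_inv, u_mul_y] at h3
    obtain ⟨k, hk⟩ := R.exists_w3 (div_ne_zero hc (mul_ne_zero ha hb0))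
    convert hM' k h3 using 2 <;> simp [hk]
    field_simp
  have h3 : ∀ {a b c}, R.u a b c ∈ M → ∀ c', R.u a b c' ∈ M := fun {a b c} h c' => by
    simpa [u_mul_z] using mul_mem h (h2 (c' - c))
  have h4 : ∀ b c, R.u 0 b c ∈ M := fun b c => by
    by_cases hb : b = 0
    · exact hb ▸ h2 c
    obtain ⟨k, hk | hk⟩ := R.exists_w2 (div_ne_zero hb hb0)
    · simpa [hk, hb0] using h3 (hM' k h1) c
    · have := inv_mem (hM' k h1)
      rw [mul_zero, y_inv] at this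
      simpa [hk, hb0] using h3 this c
  rintro _ ⟨x, y, z, rfl⟩
  by_cases hx : x = 0
  · exact hx ▸ h4 y z
  have h5 := hM' (Units.mk0 _ (div_ne_zero hx ha)) h
  rw [Units.val_mk0, div_mul_cancel₀ _ ha] at h5
  generalize x / a * R.Φ (x / a) * b = b1, (x / a) ^ 2 * R.Φ (x / a) * c = c1 at h5
  simpa [u_mul_y] using mul_mem h5 (h4 (y - b1) (z - c1))

theorem eq_top_of {M : Subgroup Γ} (hU : R.U ≤ M) (hH : ∀ k, R.h k ∈ M) (hw : R.w ∈ M) : M = ⊤ := by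
  refine eq_top_iff.2 fun g _ => ?_
  rcases R.bruhat g with ⟨a, b, c, k, rfl⟩ | ⟨a, b, c, k, a', b', c', rfl⟩
  · exact mul_mem (hU (R.u_mem ..)) (hH k)
  · exact mul_mem (mul_mem (mul_mem (hU (R.u_mem ..)) (hH k)) hw) (hU (R.u_mem ..))

theorem hom_ext {M : Type*} [Monoid M] {f g : Γ →* M} (h1 : ∀ a b c, f (R.u a b c) = g (R.u a b c))
    (h2 : ∀ k, f (R.h k) = g (R.h k)) (h3 : f R.w = g R.w) : f = g := by
  ext x
  rcases R.bruhat x with ⟨a, b, c, k, rfl⟩ | ⟨a, b, c, k, a', b', c', rfl⟩ <;> simp [h1, h2, h3]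

theorem neg_one_ne : (-1 : Kˣ) ≠ 1 := fun h => R.two_ne (by
  have := congrArg Units.val h
  simp only [Units.val_neg, Units.val_one] at this
  linear_combination -this)

theorem i_mul_i : R.h (-1) * R.h (-1) = 1 := by rw [← map_mul]; simp

theorem orderOf_i : orderOf (R.h (-1)) = 2 :=
  orderOf_eq_prime (by rw [sq, i_mul_i]) (by simpa [h_eq_one] using R.neg_one_ne)

theorem hw_not_mem (k : Kˣ) : R.h k * R.w ∉ R.B := fun h => R.w_not_mem ((mul_mem_cancel_left (R.h_mem k)).1 h)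

theorem orderOf_hw (k : Kˣ) : orderOf (R.h k * R.w) = 2 :=
  orderOf_eq_prime (by rw [sq, hw_sq]) fun h => R.hw_not_mem k (h ▸ one_mem _)

theorem isConj_i_hw (k : Kˣ) : IsConj (R.h (-1)) (R.h k * R.w) := R.invol _ _ R.orderOf_i (R.orderOf_hw k)

theorem eq_top_of_normal_U {N : Subgroup Γ} [hN : N.Normal] (hU : R.U ≤ N) : N = ⊤ := by
  have h1 : R.w * R.u 0 0 1 * R.w ∉ R.B := fun h => by simpa [u_eq_one] using R.eq_one_of_conj_mem (R.u_mem ..) h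
  obtain ⟨y, hy, k, y', hy', e⟩ := R.bruhat' h1
  have h2 : R.h k * R.w ∈ N := by
    have := hN.conj_mem _ (hU (R.u_mem 0 0 1)) R.w
    rw [w_inv, e, mul_mem_cancel_right (hU hy'), mul_assoc, mul_mem_cancel_left (hU hy)] at this
    exact this
  have h3 : ∀ k', R.h k' * R.w ∈ N := fun k' => by
    obtain ⟨c, hc⟩ := isConj_iff.1 ((R.isConj_i_hw k).symm.trans (R.isConj_i_hw k'))
    exact hc ▸ hN.conj_mem _ h2 c
  have h4 : R.w ∈ N := by simpa using h3 1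
  exact R.eq_top_of hU (fun k => (mul_mem_cancel_right h4).1 (h3 k)) h4

theorem eq_top_of_normal_uh {N : Subgroup Γ} [hN : N.Normal] {y : Γ} (hy : y ∈ R.U) {k : Kˣ} (hk : k ≠ 1)
    (h : y * R.h k ∈ N) : N = ⊤ := by
  obtain ⟨a, b, c, rfl⟩ := hy
  have h1 := mul_mem h (inv_mem (hN.conj_mem _ h (R.u 1 0 0)))
  rw [show ∀ y h x : Γ, y * h * (x * (y * h) * x⁻¹)⁻¹ = y * (h * x * h⁻¹) * y⁻¹ * x⁻¹ from fun _ _ _ => by group,
    h_conj, u_conj, u_inv, u_mul] at h1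
  refine R.eq_top_of_normal_U (R.U_le_of_inv (fun k g hg => hN.conj_mem g hg _) (fun e => hk (Units.ext ?_)) h1)
  rw [Units.val_one]; linear_combination e

theorem eq_top_of_normal {N : Subgroup Γ} [hN : N.Normal] (h : N ≠ ⊥) : N = ⊤ := by
  obtain ⟨g, hg, hgB⟩ : ∃ g ∈ N, g ∉ R.B ∨ ∃ k, k ≠ 1 ∧ g = R.h k := by
    by_contra! h1
    refine h (eq_bot_iff.2 fun g hg => ?_)
    obtain ⟨y, hy, k, rfl⟩ := (h1 g hg).1
    have h2 := (h1 _ (hN.conj_mem _ hg R.w)).1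
    rw [w_inv, ← mul_assoc, mul_assoc, h_mul_w, ← mul_assoc, mul_mem_cancel_right (R.h_mem _)] at h2
    obtain rfl := R.eq_one_of_conj_mem hy h2
    by_contra h3
    exact (h1 _ hg).2 k (by rintro rfl; simp at h3) (one_mul _)
  rcases hgB with hgB | ⟨k, hk, rfl⟩
  · obtain ⟨y, hy, k, y', hy', rfl⟩ := R.bruhat' hgB
    obtain ⟨l, hl, -⟩ := R.exists_unit
    have h1 := hN.conj_mem _ hg y'
    have h2 := mul_mem (hN.conj_mem _ h1 (R.h l)) (inv_mem h1)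
    have h3 : R.h l * (y' * (y * R.h k * R.w * y') * y'⁻¹) * (R.h l)⁻¹ * (y' * (y * R.h k * R.w * y') * y'⁻¹)⁻¹ =
        R.h l * (y' * y) * (R.h l)⁻¹ * (R.h (l ^ 2) * (y' * y)⁻¹ * (R.h (l ^ 2))⁻¹) * R.h (l ^ 2) := by
      have : R.h k * R.w * (R.h l)⁻¹ * (R.h k * R.w)⁻¹ = (R.h l)⁻¹ * R.h (l ^ 2) := by
        rw [← map_inv, mul_assoc (R.h k), w_mul_h, inv_inv, mul_inv_rev, w_inv, ← mul_assoc (R.h k), mul_assoc _ R.w,
          w_w, h_comm, mul_inv_cancel_right, ← map_mul]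
        congr 1; group
      calc _ = R.h l * (y' * y) * (R.h k * R.w * (R.h l)⁻¹ * (R.h k * R.w)⁻¹) * (y' * y)⁻¹ := by group
        _ = _ := by rw [this]; group
    rw [h3] at h2
    exact R.eq_top_of_normal_uh (mul_mem (R.h_conj_mem _ (mul_mem hy' hy)) (R.h_conj_mem _ (inv_mem (mul_mem hy' hy))))
      (fun e => hl (by simpa using congrArg Units.val e)) h2
  · exact R.eq_top_of_normal_uh (one_mem _) hk (by simpa using hg)

theorem isSimpleGroup : IsSimpleGroup Γ :=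
  have : Nontrivial Γ := ⟨R.w, 1, fun h => R.w_not_mem (h ▸ one_mem _)⟩
  ⟨fun N _ => (eq_or_ne N ⊥).imp_right R.eq_top_of_normal⟩

theorem two_generated : ∃ a b : Γ, Subgroup.closure {a, b} = ⊤ := by
  have := R.fin
  obtain ⟨k0, hk0⟩ := IsCyclic.exists_generator (α := Kˣ)
  refine ⟨R.h k0, R.u 1 0 0 * R.w, ?_⟩
  set M := Subgroup.closure {R.h k0, R.u 1 0 0 * R.w}
  have h1 : ∀ k, R.h k ∈ M := fun k => by
    obtain ⟨n, rfl⟩ := hk0 k
    rw [map_zpow]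
    exact zpow_mem (Subgroup.subset_closure (by simp)) n
  have h2 : R.u 1 0 0 * R.w ∈ M := Subgroup.subset_closure (by simp)
  obtain ⟨k, hk, -⟩ := R.exists_unit
  have h3 := mul_mem (h1 k) (mul_mem (mul_mem h2 (h1 k)) (inv_mem h2))
  rw [mul_inv_rev, w_inv, mul_assoc (R.u 1 0 0), mul_assoc (R.u 1 0 0), ← mul_assoc (R.w * _), w_h_w, map_inv,
    ← mul_assoc, ← mul_assoc, h_conj, u_inv, u_mul] at h3
  have h4 := R.U_le_of_inv (fun k g hg => mul_mem (mul_mem (h1 k) hg) (inv_mem (h1 k))) (fun e => hk (by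
    linear_combination (k + 1) * e)) h3
  exact R.eq_top_of h4 h1 ((mul_mem_cancel_left (h4 (R.u_mem ..))).1 h2)

/-! ### Centralisers -/

theorem eq_of_commute_h {k : Kˣ} (hk : k ≠ 1) {a b c : K} (h : R.h k * R.u a b c = R.u a b c * R.h k) :
    a = 0 ∧ c = 0 ∧ ((k : K) ^ 2 ≠ 1 → b = 0) := by
  rw [h_mul_u, mul_left_inj, u_eq_iff] at h
  have hk' : (k : K) ≠ 1 := fun e => hk (Units.ext e)
  refine ⟨?_, ?_, fun h2 => ?_⟩
  · exact (mul_left_eq_self₀.1 h.1).resolve_left hk'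
  · exact (mul_left_eq_self₀.1 h.2.2).resolve_left fun e => hk' (R.w3_eq_one e)
  · exact (mul_left_eq_self₀.1 h.2.1).resolve_left fun e => h2 (R.w2_eq_one e)

theorem eq_one_of_commute_h {k : Kˣ} (hk : (k : K) ^ 2 ≠ 1) {y : Γ} (hy : y ∈ R.U) (h : R.h k * y = y * R.h k) :
    y = 1 := by
  obtain ⟨a, b, c, rfl⟩ := hy
  have := R.eq_of_commute_h (by rintro rfl; simp at hk) h
  exact R.u_eq_one.2 ⟨this.1, this.2.2 hk, this.2.1⟩

theorem exists_conj_h {k : Kˣ} (hk : (k : K) ^ 2 ≠ 1) {y : Γ} (hy : y ∈ R.U) :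
    ∃ x ∈ R.U, x * R.h k * x⁻¹ = y * R.h k := by
  have := R.finΓ
  let f : R.U → R.U := fun x => ⟨x * (R.h k * (x : Γ)⁻¹ * (R.h k)⁻¹), mul_mem x.2 (R.h_conj_mem k (inv_mem x.2))⟩
  obtain ⟨x, hx⟩ := Finite.injective_iff_surjective.1 (show Function.Injective f from fun x x' e => by
    have e1 : (x : Γ) * (R.h k * (x : Γ)⁻¹ * (R.h k)⁻¹) = x' * (R.h k * (x' : Γ)⁻¹ * (R.h k)⁻¹) := congrArg Subtype.val e
    refine Subtype.ext (inv_mul_eq_one.1 (R.eq_one_of_commute_h hk (mul_mem (inv_mem x'.2) x.2) ?_)).symm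
    calc _ = (x' : Γ)⁻¹ * (x' * (R.h k * (x' : Γ)⁻¹ * (R.h k)⁻¹)) * R.h k * x := by group
      _ = _ := by rw [← e1]; group) ⟨y, hy⟩
  have e1 : (x : Γ) * (R.h k * (x : Γ)⁻¹ * (R.h k)⁻¹) = y := congrArg Subtype.val hx
  exact ⟨x, x.2, by rw [← e1]; group⟩

theorem exists_conj_i (a b c : K) : ∃ x ∈ R.U, ∃ b', x * (R.u 0 b' 0 * R.h (-1)) * x⁻¹ = R.u a b c * R.h (-1) := by
  have := R.char
  refine ⟨R.u (-a) 0 (-c + a * b), R.u_mem .., b - a * R.Φ a, ?_⟩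
  rw [mul_assoc, mul_assoc, u_inv, h_mul_u, ← mul_assoc, ← mul_assoc, u_mul, u_mul]
  congr 2 <;> simp <;> grind

/-- Elements conjugating a regular element of the torus into the torus. -/
theorem conj_h_eq {k k' : Kˣ} (hk : (k : K) ^ 2 ≠ 1) {g : Γ} (h : g * R.h k = R.h k' * g) :
    (∃ l, g = R.h l) ∧ k' = k ∨ (∃ l, g = R.h l * R.w) ∧ k' = k⁻¹ := by
  by_cases hg : g ∈ R.B
  · obtain ⟨y, hy, l, rfl⟩ := hg
    have h1 := R.B_unique hy (R.h_conj_mem k' hy) (k := l * k) (k' := k' * l) (by simpa [mul_assoc] using h)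
    obtain rfl : k' = k := mul_right_cancel (h1.2.symm.trans (mul_comm _ _))
    obtain rfl := R.eq_one_of_commute_h hk hy (mul_inv_eq_iff_eq_mul.1 h1.1.symm)
    exact .inl ⟨⟨l, one_mul _⟩, rfl⟩
  · obtain ⟨y, hy, l, y', hy', rfl⟩ := R.bruhat' hg
    have h1 := R.bruhat_unique hy (R.h_conj_mem k' hy) (R.h_conj_mem k⁻¹ hy') hy' (k := l * k⁻¹) (k' := k' * l) (by
      rw [map_mul, mul_assoc y, mul_assoc (R.h l), h_mul_w]
      simpa [mul_assoc] using h)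
    obtain rfl : k' = k⁻¹ := mul_right_cancel (h1.2.1.symm.trans (mul_comm _ _))
    have hk' : ((k⁻¹ : Kˣ) : K) ^ 2 ≠ 1 := by simpa using hk
    obtain rfl := R.eq_one_of_commute_h hk' hy (mul_inv_eq_iff_eq_mul.1 h1.1.symm)
    obtain rfl := R.eq_one_of_commute_h hk' hy' (mul_inv_eq_iff_eq_mul.1 h1.2.2)
    exact .inr ⟨⟨l, by simp⟩, rfl⟩

theorem eq_h_of_commute {k : Kˣ} (hk : (k : K) ^ 2 ≠ 1) {g : Γ} (h : g * R.h k = R.h k * g) : ∃ l, g = R.h l :=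
  (R.conj_h_eq hk h).elim And.left fun h1 => (hk (by
    rw [← Units.val_pow_eq_pow_val, sq, eq_inv_iff_mul_eq_one.1 h1.2, Units.val_one])).elim

/-! ### Sylow `3`-subgroups -/

theorem exists_conj_le_U {P : Subgroup Γ} (hP : IsPGroup 3 P) : ∃ x : Γ, ∀ g ∈ P, x * g * x⁻¹ ∈ R.U := by
  have := R.finΓ
  have : Fact (Nat.Prime 3) := ⟨Nat.prime_three⟩
  obtain ⟨Q, hQ⟩ := hP.exists_le_sylow
  obtain ⟨x, hx⟩ := MulAction.exists_smul_eq Γ Q (R.isPGroup_U.toSylow R.not_dvd_index_U)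
  refine ⟨x, fun g hg => ?_⟩
  have : x * g * x⁻¹ ∈ (x • Q : Sylow 3 Γ) := Subgroup.smul_mem_pointwise_smul g (MulAut.conj x) _ (hQ hg)
  rwa [hx] at this

theorem exists_conj_mem_U {g : Γ} {n : ℕ} (h : g ^ 3 ^ n = 1) : ∃ x : Γ, x * g * x⁻¹ ∈ R.U := by
  have : Fact (Nat.Prime 3) := ⟨Nat.prime_three⟩
  obtain ⟨x, hx⟩ := R.exists_conj_le_U (P := Subgroup.zpowers g) fun ⟨_, k, rfl⟩ =>
    ⟨n, Subtype.ext (by
      change (g ^ k) ^ 3 ^ n = 1
      rw [← zpow_natCast, ← zpow_mul, mul_comm, zpow_mul, zpow_natCast, h, one_zpow])⟩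
  exact ⟨x, hx g (Subgroup.mem_zpowers g)⟩

theorem pow_nine {g : Γ} (hg : g ∈ R.U) : g ^ 3 ^ 2 = 1 := by
  obtain ⟨a, b, c, rfl⟩ := hg
  rw [sq, pow_mul, u_cube, u_cube]; simp [u_zero]

theorem exists_pow_eq (y : Γ) (hy : y ∈ R.U) (k : Kˣ) (n : ℕ) : ∃ y' ∈ R.U, (y * R.h k) ^ n = y' * R.h (k ^ n) := by
  induction n with
  | zero => exact ⟨1, one_mem _, by simp⟩
  | succ n ih =>
    obtain ⟨y', h1, h2⟩ := ih
    exact ⟨_, mul_mem h1 (R.h_conj_mem (k ^ n) hy), by rw [pow_succ, h2, pow_succ, map_mul]; group⟩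

theorem mem_U_of_pow {g : Γ} (hg : g ∈ R.B) {n : ℕ} (h : g ^ 3 ^ n = 1) : g ∈ R.U := by
  have := R.char
  have : Fact (Nat.Prime 3) := ⟨Nat.prime_three⟩
  obtain ⟨y, hy, k, rfl⟩ := hg
  obtain ⟨y', h1, h2⟩ := R.exists_pow_eq y hy k (3 ^ n)
  have h3 := (R.B_unique h1 (one_mem _) (k' := 1) (by rw [← h2, h, map_one, one_mul])).2
  obtain rfl : k = 1 := Units.ext (by
    have := congrArg Units.val h3
    rwa [Units.val_pow_eq_pow_val, Units.val_one, ← sub_eq_zero, ← one_pow (3 ^ n), ← sub_pow_char_pow,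
      pow_eq_zero_iff (by positivity), sub_eq_zero] at this)
  simpa using hy

theorem mem_B_of_commute {g y : Γ} (hy : y ∈ R.U) (h1 : y ≠ 1) (h : g * y = y * g) : g ∈ R.B :=
  R.mem_B_of_conj_mem hy h1 (by rw [h, mul_inv_cancel_right]; exact R.U_le_B hy)

end Cfsg.Agent.Ree.RG
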