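import Cfsg.Agent.Lib.Chev.Ree
import Cfsg.Agent.Lib.Ree.Rep
import Cfsg.Agent.Lib.Ree.Struct

/-! The groups `twistedG2` are small Ree groups in the sense of `RG`. -/

set_option autoImplicit false

namespace Cfsg.Agent.Ree

open Cfsg.Lie Cfsg.Agent.Chev Cfsg.Agent.ChevM Matrix

variable {K : Type*} [Field K] [CharP K 3]

theorem ρ_rW {φ Φ : K →+* K} (h : ∀ t, φ (Φ t) = t) (a b c : K) :
    ρ (Chev.rW (xG chevG2 K) φ (Φ a) (Φ b) (Φ c)) = uM Φ a b c := by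
  simp only [Chev.rW, map_mul, h, ρ_x6, ρ_x7, ρ_x8, ρ_x9, ρ_x10, ρ_x11, mul7, uM, nm]
  refine ext7 ?_
  simp only [mul_zero, zero_mul, mul_one, one_mul, add_zero, zero_add, true_and, and_true]
  refine ⟨?_, ?_, ?_, ?_, ?_, ?_, ?_, ?_, ?_, ?_, ?_, ?_, ?_, ?_⟩ <;> grind

theorem ρ_tor (a : Fin chevG2.rank → Kˣ) : ρ ((full_xG chevG2 K).tor a) =
    diagonal ![(a gi0 : K), a gi1 / a gi0, a gi0 ^ 2 / a gi1, 1, a gi1 / a gi0 ^ 2, a gi0 / a gi1, (a gi0 : K)⁻¹] := by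
  have h1 : ∀ r : Fin chevG2.nroots, (lch chevG2 (cm chevG2 a) r : K) =
      (a gi0 : K) ^ certG2.car 0 r * (a gi1 : K) ^ certG2.car 1 r := fun r => by rw [lch_cm, chi_G2]; simp
  have h2 : ∀ r < 12, certG2.car 0 r = [0, -3, -1, 1, -2, 3, -3, 2, -1, 1, 3, 0].getD r 0 ∧
      certG2.car 1 r = [-1, 1, 0, -1, 1, -2, 2, -1, 1, 0, -1, 1].getD r 0 := by decide +kernel
  have h3 : Function.Injective ix := fun i j h => by simpa using ixy.injective (a₁ := .inl i) (a₂ := .inl j) h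
  rw [tor_xG]
  change (diagonal (Sum.elim (fun _ => (1 : K)) fun r : Fin chevG2.nroots =>
    (lch chevG2 (cm chevG2 a) r : K))).submatrix ix ix = _
  rw [submatrix_diagonal _ _ h3]
  congr 1
  ext i
  fin_cases i
  exacts [(h1 ⟨9, by decide⟩).trans (by simp [h2]), (h1 ⟨8, by decide⟩).trans (by simp [h2, div_eq_inv_mul]),
    (h1 ⟨7, by decide⟩).trans (by simp [h2, div_eq_mul_inv, zpow_ofNat]), rfl,
    (h1 ⟨4, by decide⟩).trans (by simp [h2, div_eq_inv_mul, zpow_ofNat]),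
    (h1 ⟨3, by decide⟩).trans (by simp [h2, div_eq_mul_inv]), (h1 ⟨2, by decide⟩).trans (by simp [h2])]

theorem ρ_w (φ Φ : K →+* K) : uM Φ 0 1 0 * ρ (rV (xG chevG2 K) φ 0 1 0) * uM Φ 0 1 0 = wM K := by
  simp only [rV, map_mul, map_zero, map_one, mul_zero, zero_add, neg_zero, xG_zero, mul_one, one_mul, ρ_x1, ρ_x3, mul7,
    uM, nm, wM]
  refine ext7 ?_
  simp only [mul_zero, zero_mul, mul_one, one_mul, add_zero, zero_add, neg_zero, sub_zero, zero_pow two_ne_zero]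
  and_intros <;> grind

omit [CharP K 3] in
theorem diag_hM (Φ : K →+* K) {k : K} (h : k ≠ 0) :
    diagonal ![k ^ 2 * Φ k, Φ k ^ 2 * k ^ 3 / (k ^ 2 * Φ k), (k ^ 2 * Φ k) ^ 2 / (Φ k ^ 2 * k ^ 3), 1,
      Φ k ^ 2 * k ^ 3 / (k ^ 2 * Φ k) ^ 2, k ^ 2 * Φ k / (Φ k ^ 2 * k ^ 3), (k ^ 2 * Φ k)⁻¹] = hM Φ k := by
  have h5 : Φ k ≠ 0 := (_root_.map_ne_zero Φ).2 h
  ext i j
  fin_cases i <;> fin_cases j <;> simp [hM] <;> field_simp

/-- The inclusion in `G₂(K)`. -/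
def inc (K : Type*) [Field K] (e : ℕ) : twistedG2 K e →* chevG2.group K := wordIncl chevG2 (g2Words K e)

omit [CharP K 3] in
theorem inc_inj (e : ℕ) : Function.Injective (inc K e) := fun _ _ h => Subtype.ext (congrArg Subtype.val h :)

variable [Fintype K] {m : ℕ}

theorem isConj_invol (hK : Fintype.card K = 3 ^ (2 * m + 1)) {φ : K →+* K} (hφ : ∀ t, φ t = t ^ 3 ^ m)
    (hφ2 : ∀ t, φ (φ t) ^ 3 = t) (s s' : twistedG2 K (3 ^ m)) (h : orderOf s = 2) (h' : orderOf s' = 2) :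
    IsConj s s' := by
  let f := (fm chevG2 (algebraMap K (AlgebraicClosure K))).comp (inc K (3 ^ m))
  have hf : Function.Injective f := (fm_injective _).comp (inc_inj _)
  have h1 : ∀ g, reeτ K m (f g) = f g := fun g => by
    rw [MonoidHom.comp_apply, reeτ_fm hφ, (mem_twistedG2_iff hK φ hφ hφ2 (g := inc K _ g)).1 g.2]
  obtain ⟨z, hz, h2⟩ := reeτ_conj_invol hK (h1 s) (h1 s') ((orderOf_injective _ hf _).trans h)
    ((orderOf_injective _ hf _).trans h')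
  obtain ⟨z, hz', rfl⟩ := reeτ_fixed hK hφ hz
  exact isConj_iff.2 ⟨⟨z, (mem_twistedG2_iff hK φ hφ hφ2).2 hz'⟩, hf (by rw [map_mul, map_mul, map_inv]; exact h2)⟩

theorem exists_rg' (hm : 1 ≤ m) (hK : Fintype.card K = 3 ^ (2 * m + 1)) : ∃ R : RG K m (twistedG2 K (3 ^ m)),
    ∀ g, R.ρ g = ρ (inc K (3 ^ m) g) := by
  obtain ⟨_, φ, hφ, hφ2⟩ := exists_frob_G2 hK
  obtain ⟨R, hu, hh⟩ := exists_reeData hK φ hφ hφ2
  change ∀ t a v, inc K _ _ = _ at hu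
  change ∀ c, inc K _ _ = _ at hh
  have : Fact (Nat.Prime 3) := ⟨Nat.prime_three⟩
  let Φ : K →+* K := (frobenius K 3).comp φ
  have hΦ : ∀ t, φ t ^ 3 = Φ t := fun _ => rfl
  have h1 : ∀ t, φ (Φ t) = t := fun t => by rw [← hΦ, map_pow, hφ2]
  have h2 : ∀ t, Φ (φ t) = t := hφ2
  have h3 : ∀ t, Φ (Φ t) = t ^ 3 := fun t => by rw [← hΦ, h1]
  let f := ρ.comp (inc K (3 ^ m))
  have hf : Function.Injective f := ρ_injective.comp (inc_inj _)
  let d : Kˣ →* Kˣ := MonoidHom.mk' (fun k => Units.map Φ.toMonoidHom k ^ 2 * k ^ 3) fun a b => by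
    simp only [map_mul, mul_pow]; ac_rfl
  have hd : ∀ c, ∃ k, d k = c := fun c => ⟨Units.map φ.toMonoidHom c ^ 2 / c, Units.ext (by
    have : φ c ≠ 0 := (_root_.map_ne_zero φ).2 c.ne_zero
    simp [d, h2, ← hΦ]; field_simp)⟩
  have hu' : ∀ a b c, f (R.u (Φ a) (Φ b) (Φ c)) = uM Φ a b c := fun a b c => by
    rw [MonoidHom.comp_apply, hu, ρ_rW h1]
  have hh' : ∀ k, f (R.h (d k)) = hM Φ k := fun k => by
    rw [MonoidHom.comp_apply, hh, ρ_tor, ← diag_hM Φ k.ne_zero]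
    simp [d, h1, hΦ]
  let v : twistedG2 K (3 ^ m) := ⟨Subtype.val <| wordVal (xG chevG2 K) (reeWordV (3 ^ m) 0 1 0), mem_range_wordIncl.1 (by
    rw [range_wordIncl]; exact Subgroup.subset_closure ⟨_, ⟨0, 1, 0, .inr rfl⟩, rfl⟩)⟩
  let w := R.u 0 1 0 * v * R.u 0 1 0
  have hw : f w = wM K := by
    have h4 : f v = ρ (rV (xG chevG2 K) φ 0 1 0) := by rw [rV_eq_word hφ]; rfl
    have h5 := hu' 0 1 0
    rw [map_zero, map_one] at h5
    rw [map_mul, map_mul, h4, h5, ρ_w]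
  obtain ⟨y, hy, c0, y', hy', hn⟩ : ∃ y ∈ R.U, ∃ c, ∃ y' ∈ R.U, R.n = y * R.h c * w * y' := by
    rcases R.bruhat w with ⟨t, a, v, c, e⟩ | ⟨t, a, v, c, t', a', v', e⟩
    · obtain ⟨k, rfl⟩ := hd c
      have := congrFun (congrFun (congrArg f e) 6) 0
      rw [hw, map_mul, hh', ← h2 t, ← h2 a, ← h2 v, hu'] at this
      simp [wM, uM, hM] at this
    · exact ⟨_, R.h_conj_mem c⁻¹ (inv_mem (R.u_mem t a v)), c⁻¹, _, inv_mem (R.u_mem t' a' v'), by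
        rw [e, map_inv]; group⟩
  refine ⟨⟨Φ, inferInstance, hm, Nat.card_eq_fintype_card.trans hK, fun x => by rw [← hΦ, hφ, ← pow_mul, pow_succ],
    h3, fun a b c => R.u (Φ a) (Φ b) (Φ c), R.h.comp d, w, f, hf, hu', hh', hw, fun g => ?_,
    isConj_invol hK hφ hφ2⟩, fun _ => rfl⟩
  rcases R.bruhat g with ⟨t, a, v, c, rfl⟩ | ⟨t, a, v, c, t', a', v', rfl⟩
  · obtain ⟨k, rfl⟩ := hd c
    exact .inl ⟨φ t, φ a, φ v, k, by simp only [h2]; rfl⟩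
  · obtain ⟨k, hk⟩ := hd (c * c0)
    obtain ⟨t, a, v, e⟩ := mul_mem (R.u_mem t a v) (R.h_conj_mem c hy)
    obtain ⟨t', a', v', e'⟩ := mul_mem hy' (R.u_mem t' a' v')
    exact .inr ⟨φ t, φ a, φ v, k, φ t', φ a', φ v', by
      simp only [h2, MonoidHom.comp_apply, hk, hn, map_mul, ← e, ← e']; group⟩

omit [CharP K 3] in
theorem exists_rg (hm : 1 ≤ m) (hK : Fintype.card K = 3 ^ (2 * m + 1)) : Nonempty (RG K m (twistedG2 K (3 ^ m))) :=
  let ⟨_, _⟩ := exists_frob_G2 hK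
  ⟨(exists_rg' hm hK).choose⟩

end Cfsg.Agent.Ree
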