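import Mathlib

/-! Explicit `7 × 7` matrices. -/

set_option autoImplicit false

namespace Cfsg.Agent.Ree

theorem mul7 {R : Type*} [CommRing R] (a00 a01 a02 a03 a04 a05 a06 a10 a11 a12 a13 a14 a15 a16 a20 a21 a22 a23 a24 a25 a26 a30 a31 a32 a33 a34 a35 a36 a40 a41 a42 a43 a44 a45 a46 a50 a51 a52 a53 a54 a55 a56 a60 a61 a62 a63 a64 a65 a66
    b00 b01 b02 b03 b04 b05 b06 b10 b11 b12 b13 b14 b15 b16 b20 b21 b22 b23 b24 b25 b26 b30 b31 b32 b33 b34 b35 b36 b40 b41 b42 b43 b44 b45 b46 b50 b51 b52 b53 b54 b55 b56 b60 b61 b62 b63 b64 b65 b66 : R) :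
    !![a00, a01, a02, a03, a04, a05, a06; a10, a11, a12, a13, a14, a15, a16; a20, a21, a22, a23, a24, a25, a26; a30, a31, a32, a33, a34, a35, a36; a40, a41, a42, a43, a44, a45, a46; a50, a51, a52, a53, a54, a55, a56; a60, a61, a62, a63, a64, a65, a66] *
    !![b00, b01, b02, b03, b04, b05, b06; b10, b11, b12, b13, b14, b15, b16; b20, b21, b22, b23, b24, b25, b26; b30, b31, b32, b33, b34, b35, b36; b40, b41, b42, b43, b44, b45, b46; b50, b51, b52, b53, b54, b55, b56; b60, b61, b62, b63, b64, b65, b66] =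
    !![a00 * b00 + a01 * b10 + a02 * b20 + a03 * b30 + a04 * b40 + a05 * b50 + a06 * b60, a00 * b01 + a01 * b11 + a02 * b21 + a03 * b31 + a04 * b41 + a05 * b51 + a06 * b61, a00 * b02 + a01 * b12 + a02 * b22 + a03 * b32 + a04 * b42 + a05 * b52 + a06 * b62, a00 * b03 + a01 * b13 + a02 * b23 + a03 * b33 + a04 * b43 + a05 * b53 + a06 * b63, a00 * b04 + a01 * b14 + a02 * b24 + a03 * b34 + a04 * b44 + a05 * b54 + a06 * b64, a00 * b05 + a01 * b15 + a02 * b25 + a03 * b35 + a04 * b45 + a05 * b55 + a06 * b65, a00 * b06 + a01 * b16 + a02 * b26 + a03 * b36 + a04 * b46 + a05 * b56 + a06 * b66;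
      a10 * b00 + a11 * b10 + a12 * b20 + a13 * b30 + a14 * b40 + a15 * b50 + a16 * b60, a10 * b01 + a11 * b11 + a12 * b21 + a13 * b31 + a14 * b41 + a15 * b51 + a16 * b61, a10 * b02 + a11 * b12 + a12 * b22 + a13 * b32 + a14 * b42 + a15 * b52 + a16 * b62, a10 * b03 + a11 * b13 + a12 * b23 + a13 * b33 + a14 * b43 + a15 * b53 + a16 * b63, a10 * b04 + a11 * b14 + a12 * b24 + a13 * b34 + a14 * b44 + a15 * b54 + a16 * b64, a10 * b05 + a11 * b15 + a12 * b25 + a13 * b35 + a14 * b45 + a15 * b55 + a16 * b65, a10 * b06 + a11 * b16 + a12 * b26 + a13 * b36 + a14 * b46 + a15 * b56 + a16 * b66;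
      a20 * b00 + a21 * b10 + a22 * b20 + a23 * b30 + a24 * b40 + a25 * b50 + a26 * b60, a20 * b01 + a21 * b11 + a22 * b21 + a23 * b31 + a24 * b41 + a25 * b51 + a26 * b61, a20 * b02 + a21 * b12 + a22 * b22 + a23 * b32 + a24 * b42 + a25 * b52 + a26 * b62, a20 * b03 + a21 * b13 + a22 * b23 + a23 * b33 + a24 * b43 + a25 * b53 + a26 * b63, a20 * b04 + a21 * b14 + a22 * b24 + a23 * b34 + a24 * b44 + a25 * b54 + a26 * b64, a20 * b05 + a21 * b15 + a22 * b25 + a23 * b35 + a24 * b45 + a25 * b55 + a26 * b65, a20 * b06 + a21 * b16 + a22 * b26 + a23 * b36 + a24 * b46 + a25 * b56 + a26 * b66;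
      a30 * b00 + a31 * b10 + a32 * b20 + a33 * b30 + a34 * b40 + a35 * b50 + a36 * b60, a30 * b01 + a31 * b11 + a32 * b21 + a33 * b31 + a34 * b41 + a35 * b51 + a36 * b61, a30 * b02 + a31 * b12 + a32 * b22 + a33 * b32 + a34 * b42 + a35 * b52 + a36 * b62, a30 * b03 + a31 * b13 + a32 * b23 + a33 * b33 + a34 * b43 + a35 * b53 + a36 * b63, a30 * b04 + a31 * b14 + a32 * b24 + a33 * b34 + a34 * b44 + a35 * b54 + a36 * b64, a30 * b05 + a31 * b15 + a32 * b25 + a33 * b35 + a34 * b45 + a35 * b55 + a36 * b65, a30 * b06 + a31 * b16 + a32 * b26 + a33 * b36 + a34 * b46 + a35 * b56 + a36 * b66;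
      a40 * b00 + a41 * b10 + a42 * b20 + a43 * b30 + a44 * b40 + a45 * b50 + a46 * b60, a40 * b01 + a41 * b11 + a42 * b21 + a43 * b31 + a44 * b41 + a45 * b51 + a46 * b61, a40 * b02 + a41 * b12 + a42 * b22 + a43 * b32 + a44 * b42 + a45 * b52 + a46 * b62, a40 * b03 + a41 * b13 + a42 * b23 + a43 * b33 + a44 * b43 + a45 * b53 + a46 * b63, a40 * b04 + a41 * b14 + a42 * b24 + a43 * b34 + a44 * b44 + a45 * b54 + a46 * b64, a40 * b05 + a41 * b15 + a42 * b25 + a43 * b35 + a44 * b45 + a45 * b55 + a46 * b65, a40 * b06 + a41 * b16 + a42 * b26 + a43 * b36 + a44 * b46 + a45 * b56 + a46 * b66;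
      a50 * b00 + a51 * b10 + a52 * b20 + a53 * b30 + a54 * b40 + a55 * b50 + a56 * b60, a50 * b01 + a51 * b11 + a52 * b21 + a53 * b31 + a54 * b41 + a55 * b51 + a56 * b61, a50 * b02 + a51 * b12 + a52 * b22 + a53 * b32 + a54 * b42 + a55 * b52 + a56 * b62, a50 * b03 + a51 * b13 + a52 * b23 + a53 * b33 + a54 * b43 + a55 * b53 + a56 * b63, a50 * b04 + a51 * b14 + a52 * b24 + a53 * b34 + a54 * b44 + a55 * b54 + a56 * b64, a50 * b05 + a51 * b15 + a52 * b25 + a53 * b35 + a54 * b45 + a55 * b55 + a56 * b65, a50 * b06 + a51 * b16 + a52 * b26 + a53 * b36 + a54 * b46 + a55 * b56 + a56 * b66;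
      a60 * b00 + a61 * b10 + a62 * b20 + a63 * b30 + a64 * b40 + a65 * b50 + a66 * b60, a60 * b01 + a61 * b11 + a62 * b21 + a63 * b31 + a64 * b41 + a65 * b51 + a66 * b61, a60 * b02 + a61 * b12 + a62 * b22 + a63 * b32 + a64 * b42 + a65 * b52 + a66 * b62, a60 * b03 + a61 * b13 + a62 * b23 + a63 * b33 + a64 * b43 + a65 * b53 + a66 * b63, a60 * b04 + a61 * b14 + a62 * b24 + a63 * b34 + a64 * b44 + a65 * b54 + a66 * b64, a60 * b05 + a61 * b15 + a62 * b25 + a63 * b35 + a64 * b45 + a65 * b55 + a66 * b65, a60 * b06 + a61 * b16 + a62 * b26 + a63 * b36 + a64 * b46 + a65 * b56 + a66 * b66] := by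
  ext i j; rw [Matrix.mul_apply, Fin.sum_univ_seven]; fin_cases i <;> fin_cases j <;> rfl

theorem ext7 {R : Type*} {a00 a01 a02 a03 a04 a05 a06 a10 a11 a12 a13 a14 a15 a16 a20 a21 a22 a23 a24 a25 a26 a30 a31 a32 a33 a34 a35 a36 a40 a41 a42 a43 a44 a45 a46 a50 a51 a52 a53 a54 a55 a56 a60 a61 a62 a63 a64 a65 a66
    b00 b01 b02 b03 b04 b05 b06 b10 b11 b12 b13 b14 b15 b16 b20 b21 b22 b23 b24 b25 b26 b30 b31 b32 b33 b34 b35 b36 b40 b41 b42 b43 b44 b45 b46 b50 b51 b52 b53 b54 b55 b56 b60 b61 b62 b63 b64 b65 b66 : R}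
    (h : a00 = b00 ∧ a01 = b01 ∧ a02 = b02 ∧ a03 = b03 ∧ a04 = b04 ∧ a05 = b05 ∧ a06 = b06 ∧ a10 = b10 ∧ a11 = b11 ∧ a12 = b12 ∧ a13 = b13 ∧ a14 = b14 ∧ a15 = b15 ∧ a16 = b16 ∧ a20 = b20 ∧ a21 = b21 ∧ a22 = b22 ∧ a23 = b23 ∧ a24 = b24 ∧ a25 = b25 ∧ a26 = b26 ∧ a30 = b30 ∧ a31 = b31 ∧ a32 = b32 ∧ a33 = b33 ∧ a34 = b34 ∧ a35 = b35 ∧ a36 = b36 ∧ a40 = b40 ∧ a41 = b41 ∧ a42 = b42 ∧ a43 = b43 ∧ a44 = b44 ∧ a45 = b45 ∧ a46 = b46 ∧ a50 = b50 ∧ a51 = b51 ∧ a52 = b52 ∧ a53 = b53 ∧ a54 = b54 ∧ a55 = b55 ∧ a56 = b56 ∧ a60 = b60 ∧ a61 = b61 ∧ a62 = b62 ∧ a63 = b63 ∧ a64 = b64 ∧ a65 = b65 ∧ a66 = b66) :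
    !![a00, a01, a02, a03, a04, a05, a06; a10, a11, a12, a13, a14, a15, a16; a20, a21, a22, a23, a24, a25, a26; a30, a31, a32, a33, a34, a35, a36; a40, a41, a42, a43, a44, a45, a46; a50, a51, a52, a53, a54, a55, a56; a60, a61, a62, a63, a64, a65, a66] =
    !![b00, b01, b02, b03, b04, b05, b06; b10, b11, b12, b13, b14, b15, b16; b20, b21, b22, b23, b24, b25, b26; b30, b31, b32, b33, b34, b35, b36; b40, b41, b42, b43, b44, b45, b46; b50, b51, b52, b53, b54, b55, b56; b60, b61, b62, b63, b64, b65, b66] := by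
  simp only [h]

end Cfsg.Agent.Ree
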