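import Cfsg.Agent.Lib.Mult.Comm
import Cfsg.Agent.Lib.Ree.Struct

/-! Stem extensions of the small Ree groups: the primes `2` and `3`. -/

set_option autoImplicit false
set_option linter.unusedSectionVars false

namespace Cfsg.Agent.Ree.RG

open Subgroup Cfsg.Agent.Mult Polynomial
open scoped commutatorElement

variable {K : Type*} [Field K] {m : ℕ} {G : Type*} [Group G] (R : RG K m G)
include R

theorem exists_inv_not_add : ∃ a : K, a ≠ 0 ∧ 1 + a ≠ 0 ∧ (1 + a)⁻¹ ≠ a⁻¹ + 1 := by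
  have := R.char
  obtain ⟨a, h0, h1, h2⟩ := R.exists_big
  have h3 : 1 + a ≠ 0 := fun e => h2 (by linear_combination e)
  refine ⟨a, h0, h3, fun e => h1 ?_⟩
  field_simp at e
  have : (a - 1) ^ 2 = 0 := by linear_combination -e - a * R.three
  exact sub_eq_zero.1 (pow_eq_zero_iff two_ne_zero |>.1 this)

theorem poly_eq_zero (p : K[X]) (h : p.natDegree < Nat.card K) (he : ∀ a, p.eval a = 0) : p = 0 := by
  have := R.fin
  have := Fintype.ofFinite K
  exact p.eq_zero_of_natDegree_lt_card_of_eval_eq_zero Function.injective_id he (by rwa [← Nat.card_eq_fintype_card])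

theorem r_big : 9 ≤ 3 ^ (m + 1) := Nat.pow_le_pow_right (n := 3) (i := 2) (by norm_num) (by have := R.hm; omega)

theorem r_sq : 3 * Nat.card K = 3 ^ (m + 1) * 3 ^ (m + 1) := by rw [R.card]; ring

theorem exists_w3_not_add : ∃ a : K, a ≠ 0 ∧ 1 + a ≠ 0 ∧
    ((1 + a) ^ 2 * R.Φ (1 + a))⁻¹ ≠ (a ^ 2 * R.Φ a)⁻¹ + 1 := by
  by_contra! hc
  have h8 := R.r_big
  have h9 := R.r_sq
  have hθ := R.Φ_def
  generalize 3 ^ (m + 1) = r at h8 h9 hθ
  have : (X * (1 + X) * (X ^ 2 * X ^ r - (1 + X ^ 2 * X ^ r) * (1 + X) ^ 2 * (1 + X ^ r)) : K[X]) = 0 := by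
    refine R.poly_eq_zero _ (lt_of_le_of_lt (b := 2 * r + 6) (by compute_degree; omega) (by nlinarith)) fun a => ?_
    simp only [eval_add, eval_sub, eval_pow, eval_X, eval_mul, eval_one, ← hθ]
    by_cases h0 : a = 0
    · simp [h0]
    by_cases h1 : 1 + a = 0
    · simp [h1]
    have h2 := hc a h0 h1
    have h3 := R.Φ_ne h0
    have h4 := R.Φ_ne h1
    rw [map_add, map_one] at h2 h4
    field_simp at h2
    linear_combination (a * (1 + a)) * h2
  rw [mul_eq_zero, mul_eq_zero] at this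
  rcases this with (h1 | h1) | h1
  · exact X_ne_zero h1
  · simpa using congrArg (eval 0) h1
  · have h2 : r ≠ 0 := by omega
    simpa [h2] using congrArg (eval 0) h1

theorem sign_trivial {A : Type*} [Group A] (β : K → A) (h1 : ∀ d d', β (d + d') = β d * β d')
    (h2 : ∀ d, β (-d) = β d) (d : K) : β d = 1 := by
  have h0 : β 0 = 1 := by simpa using h1 0 0
  rw [show d = -d + -d by linear_combination d * R.three, h1, h2 d, ← h0, ← add_neg_cancel d, h1, h2]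

theorem comm_z (a b c d : K) : Commute (R.u a b c) (R.u 0 0 d) := by
  rw [Commute, SemiconjBy, u_mul_z, z_mul_u, add_comm]

theorem comm_y (b c b' c' : K) : Commute (R.u 0 b c) (R.u 0 b' c') := by
  rw [Commute, SemiconjBy, u_mul_y, u_mul_y, add_comm, add_comm c]

theorem i_conj (a b c : K) : R.h (-1) * R.u a b c * (R.h (-1))⁻¹ = R.u (-a) b (-c) := by simp [h_conj]

/-- The second term of the upper central series of `U`. -/
def Y : Subgroup G where
  carrier := {g | ∃ b c, g = R.u 0 b c}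
  one_mem' := ⟨_, _, R.u_zero.symm⟩
  mul_mem' := by rintro _ _ ⟨_, _, rfl⟩ ⟨_, _, rfl⟩; exact ⟨_, _, R.u_mul_y ..⟩
  inv_mem' := by rintro _ ⟨_, _, rfl⟩; exact ⟨_, _, R.y_inv ..⟩

theorem y_mem (b c : K) : R.u 0 b c ∈ R.Y := ⟨_, _, rfl⟩

theorem commutator_mem_Y {x y : G} (hx : x ∈ R.U) (hy : y ∈ R.U) : ⁅x, y⁆ ∈ R.Y := by
  obtain ⟨a, b, c, rfl⟩ := hx
  obtain ⟨a', b', c', rfl⟩ := hy
  rw [commutatorElement_def, u_conj, u_inv, u_mul, add_neg_cancel]
  exact R.y_mem ..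

theorem commutator_y (a b c b' c' : K) : ⁅R.u a b c, R.u 0 b' c'⁆ = R.u 0 0 (a * b') := by
  rw [commutatorElement_def, u_conj, y_inv, u_mul_y]; simp

theorem sq_eq_one_of_mem {x : G} (hx : x ∉ R.B) (h : x * x ∈ R.B) : x * x = 1 := by
  obtain ⟨y, hy, k, y', hy', rfl⟩ := R.bruhat' hx
  have h1 : y * R.h k * R.w * y' * (y * R.h k * R.w * y') =
      y * R.h k * (R.w * (y' * y) * R.w) * (R.h k⁻¹ * y') := by rw [← w_h_w]; simp only [mul_assoc, w_w]
  rw [h1, mul_mem_cancel_right (mul_mem (R.h_mem _) (R.U_le_B hy')),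
    mul_mem_cancel_left (mul_mem (R.U_le_B hy) (R.h_mem _))] at h
  have h2 := R.eq_one_of_conj_mem (mul_mem hy' hy) h
  rw [h1, h2, mul_one, w_mul_w, mul_one, map_inv, mul_assoc, mul_inv_cancel_left, mul_eq_one_iff_eq_inv,
    eq_inv_iff_mul_eq_one, ← mul_eq_one_iff_inv_eq.1 h2, inv_mul_cancel]

theorem sq_ne_i (x : G) : x * x ≠ R.h (-1) := fun e => by
  by_cases hx : x ∈ R.B
  · obtain ⟨y, hy, k, rfl⟩ := hx
    obtain ⟨y', h1, h2⟩ := R.exists_pow_eq y hy k 2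
    have h3 := (R.B_unique h1 (one_mem _) (k' := -1) (by rw [← h2, sq, e, one_mul])).2
    exact R.sq_ne_neg_one k (by simpa using congrArg Units.val h3)
  · exact R.neg_one_ne (R.h_eq_one.1 (e.symm.trans (R.sq_eq_one_of_mem hx (e ▸ R.h_mem _))))

theorem exists_conj_invol {s : G} (h : s * s = 1) (h1 : s ≠ 1) : ∃ c, s = c * R.h (-1) * c⁻¹ := by
  obtain ⟨c, hc⟩ := isConj_iff.1 (R.invol _ _ R.orderOf_i (orderOf_eq_prime (by rw [sq, h]) h1))
  exact ⟨c, hc.symm⟩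

theorem sq_eq_one_of_pow {n : ℕ} {x : G} (h : x ^ 2 ^ n = 1) : x * x = 1 := by
  induction n generalizing x with
  | zero => simp_all
  | succ n ih =>
    by_contra h1
    obtain ⟨c, hc⟩ := R.exists_conj_invol (ih (x := x * x) (by rw [← sq, ← pow_mul, ← pow_succ', h])) h1
    exact R.sq_ne_i (c⁻¹ * x * c) (by rw [← inv_mul_cancel_left c (R.h _), ← mul_inv_cancel_right (c * _) c⁻¹, ← hc]; group)

theorem commute_i_y (b : K) : Commute (R.h (-1)) (R.u 0 b 0) := by simp [Commute, SemiconjBy, h_mul_u]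

theorem commute_i_h (k : Kˣ) : Commute (R.h (-1)) (R.h k) := R.h_comm ..

theorem commute_i_w : Commute (R.h (-1)) R.w := by simp [Commute, SemiconjBy, h_mul_w, ← map_inv]

theorem commute_i_cases {g : G} (h : Commute (R.h (-1)) g) : (∃ b k, g = R.u 0 b 0 * R.h k) ∨
    ∃ b k b', g = R.u 0 b 0 * R.h k * R.w * R.u 0 b' 0 := by
  have h0 : ∀ y ∈ R.U, R.h (-1) * y * (R.h (-1))⁻¹ = y → ∃ b, y = R.u 0 b 0 := by
    rintro _ ⟨a, b, c, rfl⟩ e
    obtain ⟨rfl, rfl, -⟩ := R.eq_of_commute_h R.neg_one_ne (mul_inv_eq_iff_eq_mul.1 e)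
    exact ⟨b, rfl⟩
  by_cases hg : g ∈ R.B
  · obtain ⟨y, hy, k, rfl⟩ := hg
    obtain ⟨b, rfl⟩ := h0 y hy (R.B_unique (R.h_conj_mem _ hy) hy (k := k) (k' := k) (by
      rw [← h.mul_inv_cancel, ← map_inv, mul_assoc, h_comm]; simp [mul_assoc])).1
    exact .inl ⟨b, k, rfl⟩
  · obtain ⟨y, hy, k, y', hy', rfl⟩ := R.bruhat' hg
    have h1 := R.bruhat_unique (R.h_conj_mem (-1) hy) hy (R.h_conj_mem (-1) hy') hy' (k := k) (k' := k) (by
      have h2 := ((R.commute_i_h k).mul_right R.commute_i_w).mul_inv_cancel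
      conv_rhs => rw [← h.mul_inv_cancel]
      rw [mul_assoc _ (R.h k), ← h2]; group)
    obtain ⟨b, rfl⟩ := h0 y hy h1.1
    obtain ⟨b', rfl⟩ := h0 y' hy' h1.2.2
    exact .inr ⟨b, k, b', rfl⟩

variable {Γ : Type*} [Group Γ] {σ : Γ →* G} (hσ : IsStemExtension σ)

theorem cm_z_z (b d : K) : cm hσ (R.u 0 0 b) (R.u 0 0 d) = 1 := by
  obtain ⟨a, h0, h1, h2⟩ := R.exists_inv_not_add
  refine form_trivial (fun b d => cm hσ (R.u 0 0 b) (R.u 0 0 d)) id (fun b b' d => ?_) (fun b d d' => ?_)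
    (fun _ h => h) (fun μ d hμ => ?_) h0 h1 h2 b d
  · rw [← z_mul_z, cm_mul_left' hσ (R.comm_z ..)]
  · rw [← z_mul_z, cm_mul_right' hσ (R.comm_z ..)]
  · obtain ⟨ν, rfl⟩ := R.exists_w3 hμ
    simpa [h_conj] using cm_conj_of_commute hσ (R.comm_z 0 0 1 d) (R.h ν)

theorem cm_y_z (b c d : K) : cm hσ (R.u 0 b c) (R.u 0 0 d) = 1 := by
  rw [show R.u 0 b c = R.u 0 b 0 * R.u 0 0 c by simp [u_mul_z], cm_mul_left' hσ (R.comm_z ..), cm_z_z, one_mul]
  refine R.sign_trivial (fun d => cm hσ (R.u 0 b 0) (R.u 0 0 d)) (fun d d' => ?_) (fun d => ?_) d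
  · rw [← z_mul_z, cm_mul_right' hσ (R.comm_z ..)]
  · simpa [i_conj] using cm_conj_of_commute hσ (R.comm_z 0 b 0 d) (R.h (-1))

theorem cm_u_z (a b c d : K) : cm hσ (R.u a b c) (R.u 0 0 d) = 1 := by
  have h3 : ∀ a b c d, cm hσ (R.u a b c) (R.u 0 0 d) = cm hσ (R.u a 0 0) (R.u 0 0 d) := fun a b c d => by
    rw [show R.u a b c = R.u a 0 0 * R.u 0 b c by simp [u_mul_y], cm_mul_left' hσ (R.comm_z ..), cm_y_z, one_mul]
  obtain ⟨e, h0, h1, h2⟩ := R.exists_w3_not_add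
  rw [h3]
  refine form_trivial (fun a d => cm hσ (R.u a 0 0) (R.u 0 0 d)) (fun μ => μ ^ 2 * R.Φ μ) (fun a a' d => ?_)
    (fun a d d' => ?_) (fun _ h => mul_ne_zero (pow_ne_zero _ h) (R.Φ_ne h)) (fun μ d hμ => ?_) h0 h1 h2 a d
  · rw [← cm_mul_left' hσ (R.comm_z ..), u_mul, h3 _ (_ - _)]
  · rw [← z_mul_z, cm_mul_right' hσ (R.comm_z ..)]
  · simpa [h_conj] using cm_conj_of_commute hσ (R.comm_z 1 0 0 d) (R.h (Units.mk0 μ hμ))

theorem cm_u_y (a b c b' c' : K) : cm hσ (R.u a b c) (R.u 0 b' c') = cm hσ (R.u a b c) (R.u 0 b' 0) := by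
  rw [show R.u 0 b' c' = R.u 0 b' 0 * R.u 0 0 c' by simp [u_mul_z], cm_mul_right' hσ (R.comm_z ..), cm_u_z, mul_one]

theorem cm_y_y (b c b' c' : K) : cm hσ (R.u 0 b c) (R.u 0 b' c') = 1 := by
  obtain ⟨a, h0, h1, h2⟩ := R.exists_inv_not_add
  have hl : ∀ b b' d, cm hσ (R.u 0 (b + b') 0) (R.u 0 d 0) =
      cm hσ (R.u 0 b' 0) (R.u 0 d 0) * cm hσ (R.u 0 b 0) (R.u 0 d 0) := fun b b' d => by
    rw [← cm_mul_left' hσ (R.comm_y ..), u_mul_y, add_zero]
  have hr : ∀ b d d', cm hσ (R.u 0 b 0) (R.u 0 (d + d') 0) =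
      cm hσ (R.u 0 b 0) (R.u 0 d 0) * cm hσ (R.u 0 b 0) (R.u 0 d' 0) := fun b b' d => by
    rw [← cm_mul_right' hσ (R.comm_y ..), u_mul_y, add_zero]
  rw [cm_u_y, cm_swap, cm_u_y, inv_eq_one]
  refine form_trivial (fun b d => cm hσ (R.u 0 b 0) (R.u 0 d 0)) id hl hr (fun _ h => h) (fun μ d hμ => ?_)
    h0 h1 h2 b' b
  obtain ⟨ν, hν | hν⟩ := R.exists_w2 hμ
  · simpa [h_conj, hν] using cm_conj_of_commute hσ (R.comm_y 1 0 d 0) (R.h ν)
  · have h3 := cm_conj_of_commute hσ (R.comm_y 1 0 d 0) (R.h ν)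
    simp only [h_conj, hν, mul_zero, mul_one, neg_mul] at h3
    have h4 := hl μ (-μ) (-(μ * d))
    have h5 := hr μ (μ * d) (-(μ * d))
    rw [add_neg_cancel, u_zero, h3] at h4
    rw [add_neg_cancel, u_zero] at h5
    have h6 : ∀ g, cm hσ g 1 = 1 := fun g => by simpa using cm_pow_self hσ g 0
    rw [cm_swap, h6, inv_one] at h4
    rw [h6] at h5
    exact mul_right_cancel (h5.symm.trans h4)

include hσ in
theorem pow_eq_one_three {z : Γ} (hz : z ∈ σ.ker) : z ^ (R.U.index * (Nat.card K - 1)) = 1 := by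
  have := R.fin
  have := R.finΓ
  have hc : ∀ x y : Γ, σ x ∈ R.U → (∃ d, σ y = R.u 0 0 d) → Commute x y := by
    rintro x y ⟨a, b, c, hx⟩ ⟨d, hy⟩
    rw [← cm_eq_one_iff hσ, hx, hy, cm_u_z]
  let _ : CommGroup (R.Y.comap σ) :=
    { (inferInstance : Group (R.Y.comap σ)) with
      mul_comm := fun x y => Subtype.ext (by
        obtain ⟨b, c, hx⟩ := x.2
        obtain ⟨b', c', hy⟩ := y.2
        exact (cm_eq_one_iff hσ).1 (by rw [hx, hy, cm_y_y])) }
  let c : Kˣ → R.Y.comap σ →* R.Y.comap σ := fun μ =>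
    { toFun := fun z => ⟨sec hσ (R.h μ) * z * (sec hσ (R.h μ))⁻¹, by
        obtain ⟨b, c, hb⟩ := z.2
        rw [mem_comap, map_mul, map_mul, map_inv, map_sec, hb, h_conj, mul_zero]
        exact R.y_mem ..⟩
      map_one' := by ext; simp
      map_mul' := fun x y => by ext; simp [mul_assoc] }
  have hcc : ∀ μ ν z, c μ (c ν z) = c (μ * ν) z := fun μ ν z => by
    ext
    change sec hσ (R.h μ) * (sec hσ (R.h ν) * z * (sec hσ (R.h ν))⁻¹) * (sec hσ (R.h μ))⁻¹ =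
      sec hσ (R.h (μ * ν)) * z * (sec hσ (R.h (μ * ν)))⁻¹
    rw [← conj_congr hσ.2.1 (x := sec hσ (R.h μ) * sec hσ (R.h ν)) (x' := sec hσ (R.h (μ * ν))) (by simp)]
    group
  have := Fintype.ofFinite Kˣ
  let π : R.Y.comap σ →* R.Y.comap σ := ∏ μ, c μ
  have hπ : ∀ z, π z = ∏ μ, c μ z := fun z => MonoidHom.finset_prod_apply _ _ _
  have hπc : ∀ ν z, π (c ν z) = π z := fun ν z => by
    rw [hπ, hπ, ← Equiv.prod_comp (Equiv.mulRight ν) fun μ => c μ z]
    simp [hcc]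
  have hmem : ∀ {x y : G}, x ∈ R.U → y ∈ R.U → cm hσ x y ∈ R.Y.comap σ := fun hx hy => by
    rw [mem_comap, map_cm]; exact R.commutator_mem_Y hx hy
  let F : R.U → R.U → R.Y.comap σ := fun g y => π ⟨cm hσ g y, hmem g.2 y.2⟩
  let v : K → K → K → R.U := fun a b c => ⟨R.u a b c, R.u_mem ..⟩
  have hF : ∀ (μ : Kˣ) a d e, F (v (μ * a) 0 0) (v (μ * d) (μ * R.Φ μ * e) 0) = F (v a 0 0) (v d e 0) := fun μ a d e => by
    simp only [F]
    rw [← hπc μ ⟨cm hσ (R.u a 0 0) (R.u d e 0), _⟩]; congr 1; ext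
    change _ = _ * _ * _
    rw [cm_conj]
    simp [h_conj, v]
  have h1 : ∀ g b c, F g (v 0 b c) = 1 := by
    rintro ⟨_, a, b', c', rfl⟩ b c
    have h2 : ∀ a b' c' : K, cm hσ (R.u a b' c') (R.u 0 b 0) = cm hσ (R.u a 0 0) (R.u 0 b 0) := fun a b' c' => by
      rw [show R.u a b' c' = R.u a 0 0 * R.u 0 b' c' by simp [u_mul_y], cm_mul_left' hσ (R.comm_y ..), cm_y_y, one_mul]
    refine Eq.trans ?_ (R.sign_trivial (fun a => F (v a 0 0) (v 0 b 0)) (fun a a' => ?_) (fun a => ?_) a)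
    · exact congrArg π (Subtype.ext ((R.cm_u_y ..).trans (h2 ..)))
    · simp only [F]
      rw [mul_comm, ← map_mul]; congr 1; ext
      change cm hσ (R.u ..) (R.u ..) = cm hσ (R.u ..) (R.u ..) * cm hσ (R.u ..) (R.u ..)
      rw [← cm_mul_left hσ (hc _ _ (by simp [R.u_mem]) ⟨_, by rw [map_cm, commutator_y]⟩), u_mul, h2 _ (_ - _)]
    · simpa using hF (-1) a 0 b
  have h2 : ∀ (g : R.U) (y : R.Y.comap σ) (h : sec hσ g * y * (sec hσ g)⁻¹ ∈ R.Y.comap σ), π ⟨_, h⟩ = π y :=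
    fun g y h => by
      obtain ⟨b, c, hy⟩ := y.2
      rw [← mul_inv_eq_one, ← map_inv, ← map_mul, ← h1 g b c]
      congr 1; ext
      change ⁅sec hσ g, (y : Γ)⁆ = cm hσ g (R.u 0 b c)
      rw [cm_eq hσ, map_sec, hy]
  have h3 : ∀ (g : R.U) (y : R.Y.comap σ), sec hσ g * y * (sec hσ g)⁻¹ ∈ R.Y.comap σ := by
    rintro ⟨_, a, b', c', rfl⟩ ⟨y, b, c, hy⟩
    rw [mem_comap, map_mul, map_mul, map_inv, map_sec, hy, u_conj]
    exact R.y_mem ..
  have hl : ∀ g g' y, F (g * g') y = F g' y * F g y := fun g g' y => by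
    simp only [F]
    rw [← h2 g ⟨cm hσ g' y, _⟩ (h3 ..), ← map_mul]; congr 1; ext
    change cm hσ (g * g') y = sec hσ g * cm hσ g' y * (sec hσ g)⁻¹ * cm hσ g y
    have := cm_eq hσ (sec hσ g * sec hσ g') (sec hσ y)
    rw [map_mul, map_sec, map_sec, map_sec] at this
    rw [← this]; simp only [cm, commutatorElement_def]; group
  have hs : ∀ g y, F y g = (F g y)⁻¹ := fun g y => by
    simp only [F]
    rw [← map_inv]; congr 1; ext; exact cm_swap ..
  have hr : ∀ g y y', F g (y * y') = F g y * F g y' := fun g g' y => by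
    rw [hs, hl, mul_inv, ← hs, ← hs, mul_comm]
  have hv : ∀ a b c, v a b c = v a 0 0 * v 0 b c := fun a b c => Subtype.ext (by simp [v, u_mul_y])
  have hred : ∀ a b c a' b' c' : K, F (v a b c) (v a' b' c') = F (v a 0 0) (v a' 0 0) := fun a b c a' b' c' => by
    rw [hv a', hr, h1, mul_one, hv, hl, hs, h1, inv_one, one_mul]
  obtain ⟨e, h0, h4, h5⟩ := R.exists_inv_not_add
  have hform := form_trivial (fun a d : K => F (v a 0 0) (v d 0 0)) id
    (fun a a' d => by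
      rw [← hl, show v a 0 0 * v a' 0 0 = v (a + a') _ _ from Subtype.ext (R.u_mul ..), hred _ (_ - _)])
    (fun a d d' => by
      rw [← hr, show v d 0 0 * v d' 0 0 = v (d + d') _ _ from Subtype.ext (R.u_mul ..), hred _ _ _ _ (_ - _)])
    (fun _ h => h) (fun μ d hμ => by simpa using hF (Units.mk0 μ hμ) 1 d 0) h0 h4 h5
  have hle : ⁅R.U.comap σ, R.U.comap σ⁆ ≤ π.ker.map (R.Y.comap σ).subtype := by
    rw [commutator_le]
    rintro x ⟨a, b, c, hx⟩ y ⟨a', b', c', hy⟩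
    exact ⟨_, (hred a b c a' b' c').trans (hform a a'), by rw [cm_eq hσ, hx, hy]; rfl⟩
  obtain ⟨y, hy, hyz⟩ := hle (pow_index_mem hσ R.U hz)
  have h6 : ∀ μ, c μ y = y := fun μ => by
    ext
    change _ * (y : Γ) * _ = _
    have : (y : Γ) ∈ σ.ker := by
      change (R.Y.comap σ).subtype y ∈ _
      rw [hyz]; exact pow_mem hz _
    rw [(commute_of_mem_ker hσ this _).eq, mul_inv_cancel_right]
  rw [SetLike.mem_coe, MonoidHom.mem_ker, hπ] at hy
  simp only [h6, Finset.prod_const, Finset.card_univ] at hy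
  rw [pow_mul, ← hyz, ← map_pow, ← Nat.card_units, Nat.card_eq_fintype_card, hy, map_one]

theorem cm_i {g : G} (h : Commute (R.h (-1)) g) : cm hσ (R.h (-1)) g = 1 := by
  have h1 : ∀ {g g'}, Commute (R.h (-1)) g' → cm hσ (R.h (-1)) (g * g') = cm hσ (R.h (-1)) g * cm hσ (R.h (-1)) g' :=
    fun h => cm_mul_right' hσ h _
  have h2 : ∀ {g}, Commute (R.h (-1)) g → cm hσ (R.h (-1)) (g * g) = 1 := fun {g} h => by
    rw [h1 h, ← cm_mul_left' hσ h, i_mul_i, cm_swap, inv_eq_one]; simpa using cm_pow_self hσ g 0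
  have h3 : ∀ b, cm hσ (R.h (-1)) (R.u 0 b 0) = 1 := fun b => by
    rw [← h2 (R.commute_i_y (-b)), u_mul_y, add_zero, show -b + -b = b by linear_combination -b * R.three]
  have h4 : ∀ k, cm hσ (R.h (-1)) (R.h k) = 1 := fun k => by
    rcases R.isSquare_or k.ne_zero with ⟨x, e⟩ | ⟨x, e⟩
    · have hx : x ≠ 0 := by rintro rfl; simp at e
      rw [← h2 (R.commute_i_h (Units.mk0 x hx)), ← map_mul, show k = Units.mk0 x hx * Units.mk0 x hx from Units.ext e]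
    · have hx : x ≠ 0 := by rintro rfl; simp at e
      rw [show k = -1 * (Units.mk0 x hx * Units.mk0 x hx) from Units.ext (by simp [← e]), map_mul,
        h1 (R.commute_i_h _), map_mul, h2 (R.commute_i_h _), mul_one]
      simpa using cm_pow_self hσ (R.h (-1)) 1
  have h5 : ∀ b k b', cm hσ (R.h (-1)) (R.u 0 b 0 * R.h k * R.w * R.u 0 b' 0) = cm hσ (R.h (-1)) R.w :=
    fun b k b' => by rw [h1 (R.commute_i_y _), h1 R.commute_i_w, h1 (R.commute_i_h _), h3, h3, h4]; simp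
  have h6 : cm hσ (R.h (-1)) R.w = 1 := by
    rcases R.commute_i_cases ((R.commute_i_w.mul_right (R.commute_i_y 1)).mul_right R.commute_i_w) with
      ⟨b, k, e⟩ | ⟨b, k, b', e⟩
    · simpa [u_eq_one] using R.eq_one_of_conj_mem (R.u_mem 0 1 0) (e ▸ mul_mem (R.u_mem_B ..) (R.h_mem _))
    · have := h5 b k b'
      rwa [← e, h1 R.commute_i_w, h1 (R.commute_i_y _), h3, mul_one, mul_eq_right] at this
  rcases R.commute_i_cases h with ⟨b, k, rfl⟩ | ⟨b, k, b', rfl⟩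
  · rw [h1 (R.commute_i_h _), h3, h4, one_mul]
  · rw [h5, h6]

include hσ in
theorem pow_eq_one_two {P : Subgroup G} (hP : IsPGroup 2 P) {z : Γ} (hz : z ∈ σ.ker) : z ^ P.index = 1 := by
  have := R.finΓ
  have h1 : ∀ x ∈ P, x * x = 1 := fun x hx => by
    obtain ⟨n, hn⟩ := hP ⟨x, hx⟩
    exact R.sq_eq_one_of_pow (congrArg Subtype.val hn)
  have : ⁅P.comap σ, P.comap σ⁆ = ⊥ := by
    rw [eq_bot_iff, commutator_le]
    intro x hx y hy
    rw [mem_bot, cm_eq hσ]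
    have h2 : Commute (σ x) (σ y) := by
      have := h1 _ (mul_mem hx hy)
      rw [Commute, SemiconjBy, ← mul_eq_one_iff_inv_eq.1 this, mul_inv_rev, mul_eq_one_iff_inv_eq.1 (h1 _ hx),
        mul_eq_one_iff_inv_eq.1 (h1 _ hy)]
    by_cases h3 : σ x = 1
    · rw [h3, cm_swap, inv_eq_one]; simpa using cm_pow_self hσ (σ y) 0
    obtain ⟨c, hc⟩ := R.exists_conj_invol (h1 _ hx) h3
    have h4 : Commute (R.h (-1)) (c⁻¹ * σ y * c) := by
      simpa [hc, mul_assoc] using h2.map (MulAut.conj c⁻¹)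
    rw [← R.cm_i hσ h4, ← cm_conj_of_commute hσ h4 c, hc]; simp [mul_assoc]
  simpa [this] using pow_index_mem hσ P hz

end Cfsg.Agent.Ree.RG
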