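import Cfsg.Agent.Lib.Ree.Trace

/-! Solvable subgroups of the small Ree groups. -/

set_option autoImplicit false
set_option linter.unusedSectionVars false

namespace Cfsg.Agent.Ree

open Cfsg.Agent.Chev Subgroup
open scoped commutatorElement

section general

variable {Γ : Type*} [Group Γ] [Finite Γ]

theorem le_normalizer_of {S A : Subgroup Γ} (h : ∀ s ∈ S, ∀ x ∈ A, s * x * s⁻¹ ∈ A) :
    S ≤ normalizer (A : Set Γ) := fun s hs => mem_normalizer_iff.2 fun x =>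
  ⟨h s hs x, fun hx => by simpa [mul_assoc] using h _ (inv_mem hs) _ hx⟩

theorem le_normalizer_map {S A : Subgroup Γ} (c : Γ) (h : ∀ s ∈ S, ∀ x ∈ A, c⁻¹ * s * c * x * (c⁻¹ * s * c)⁻¹ ∈ A) :
    S ≤ normalizer (A.map (MulAut.conj c).toMonoidHom : Set Γ) := le_normalizer_of (by
  rintro s hs _ ⟨x, hx, rfl⟩
  exact ⟨_, h s hs x hx, by simp [mul_assoc]⟩)

theorem centralizer_le_of_max {S Q : Subgroup Γ} (hS : Group.IsSolvable S) (hQ : IsPGroup 2 Q)
    (h2 : ∀ y ∈ Q, y * y = 1) (hN : S ≤ normalizer (Q : Set Γ))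
    (hmax : ∀ E : Subgroup Γ, IsPGroup 2 E → S ≤ normalizer (E : Set Γ) → Q ≤ E → E ≤ Q)
    (hodd : ∀ a p, p.Prime → p ≠ 2 → orderOf a = p → ∃ s ∈ S, ¬ Commute (s * a * s⁻¹) a) :
    S ⊓ centralizer (Q : Set Γ) ≤ Q := by
  have : Fact (Nat.Prime 2) := ⟨Nat.prime_two⟩
  have key : ∀ E : Subgroup Γ, E ≤ S ⊓ centralizer (Q : Set Γ) → (∀ s ∈ S, ∀ x ∈ E, s * x * s⁻¹ ∈ E) → E ≤ Q := by
    intro E
    induction E using WellFoundedLT.induction with | ind E ih => ?_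
    intro h3 h4
    by_cases h0 : E = ⊥
    · exact h0 ▸ bot_le
    have h5 : ⁅E, E⁆ ≤ Q := by
      have : Group.IsSolvable E := Group.isSolvable_of_isSolvable_injective (inclusion_injective (h3.trans inf_le_left))
      have h6 : ⁅E, E⁆ < E := lt_of_le_of_ne (commutator_le_self E) fun e => by
        have h7 := Group.IsSolvable.commutator_lt_of_ne_bot (G := E) (H := ⊤) (by
          have := (nontrivial_iff_ne_bot E).2 h0
          exact top_ne_bot)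
        refine h7.ne (map_injective E.subtype_injective ?_)
        rw [map_commutator, ← MonoidHom.range_eq_map, range_subtype, e]
      refine ih _ h6 (h6.le.trans h3) fun s hs x hx => ?_
      have h7 : E.map (MulAut.conj s).toMonoidHom ≤ E := by rintro _ ⟨y, hy, rfl⟩; exact h4 s hs y hy
      exact commutator_mono h7 h7 (map_commutator E E (MulAut.conj s).toMonoidHom ▸ mem_map_of_mem _ hx)
    have h6 : ∀ e ∈ E, ∀ f ∈ E, Commute (e ^ 2) f := fun e he f hf => by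
      have h7 := h5 (commutator_mem_commutator he hf)
      have h8 := (h3 he).2 _ h7
      rw [← commutatorElement_eq_one_iff_commute, ← h2 _ h7]
      calc ⁅e ^ 2, f⁆ = e * ⁅e, f⁆ * e⁻¹ * ⁅e, f⁆ := by simp only [commutatorElement_def, sq]; group
        _ = _ := by rw [← h8, mul_inv_cancel_right]
    have h7 : IsPGroup 2 E := fun e => by
      refine ⟨(orderOf e).primeFactorsList.length, ?_⟩
      rw [← Nat.eq_prime_pow_of_unique_prime_dvd (orderOf_pos e).ne' fun {p} hp hd => ?_, pow_orderOf_eq_one]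
      by_contra h8
      have h9 : p ∣ orderOf ((e : Γ) ^ 2) := by
        rw [← orderOf_coe] at hd
        refine ((Nat.coprime_primes hp Nat.prime_two).2 h8).dvd_of_dvd_mul_left (hd.trans ?_)
        rw [orderOf_dvd_iff_pow_eq_one, pow_mul, pow_orderOf_eq_one]
      obtain ⟨s, hs, h10⟩ := hodd _ p hp h8 (orderOf_pow_orderOf_div (orderOf_pos _).ne' h9)
      exact h10 ((h6 e e.2 _ (h4 s hs _ (pow_mem (pow_mem e.2 _) _))).pow_left _).symm
    have h8 : E ≤ normalizer (Q : Set Γ) := (h3.trans inf_le_left).trans hN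
    refine le_sup_left.trans (hmax _ (IsPGroup.to_sup_of_normal_right' h7 hQ h8) (le_normalizer_of fun s hs x hx => ?_)
      le_sup_right)
    have h9 : (E ⊔ Q).map (MulAut.conj s).toMonoidHom ≤ E ⊔ Q := by
      rw [Subgroup.map_sup]
      refine sup_le_sup ?_ ?_ <;> rintro _ ⟨y, hy, rfl⟩
      exacts [h4 s hs y hy, (mem_normalizer_iff.1 (hN hs) y).1 hy]
    exact h9 ⟨x, hx, rfl⟩
  refine key _ le_rfl fun s hs x hx => mem_inf.2 ⟨mul_mem (mul_mem hs hx.1) (inv_mem hs), fun y hy => ?_⟩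
  have := hx.2 _ ((mem_normalizer_iff.1 (inv_mem (hN hs)) y).1 hy)
  calc _ = s * (s⁻¹ * y * s⁻¹⁻¹ * x) * s⁻¹ := by group
    _ = _ := by rw [this]; group

theorem pow_six_mem_centralizer {Q : Subgroup Γ} (hQ : Nat.card Q ≤ 4) {s : Γ} (hs : s ∈ normalizer (Q : Set Γ)) :
    s ^ 6 ∈ centralizer (Q : Set Γ) := fun y hy => by
  classical
  by_cases h1 : y = 1
  · simp [h1]
  let σ := Equiv.Perm.subtypePerm (p := fun y => y ∈ Q ∧ y ≠ 1) (MulAut.toPerm Γ (MulAut.conj s)) fun x => by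
    change s * x * s⁻¹ ∈ Q ∧ s * x * s⁻¹ ≠ 1 ↔ _
    simp [← mem_normalizer_iff.1 hs x]
  have h2 : Nat.card {y // y ∈ Q ∧ y ≠ 1} ≤ 3 := by
    have h3 : (Q : Set Γ) = insert 1 {y | y ∈ Q ∧ y ≠ 1} := by
      ext x; by_cases h : x = 1 <;> simp [h]
    have h4 := congrArg Set.ncard h3
    rw [Set.ncard_insert_of_notMem (by simp), ← Nat.card_coe_set_eq, ← Nat.card_coe_set_eq] at h4
    exact Nat.le_of_succ_le_succ (h4.symm.trans_le hQ)
  have h3 : σ ^ 6 = 1 := orderOf_dvd_iff_pow_eq_one.1 ((orderOf_dvd_natCard σ).trans (by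
    rw [Nat.card_perm]; exact Nat.factorial_dvd_factorial h2))
  have h4 := congrArg (fun f : Equiv.Perm _ => (f ⟨y, hy, h1⟩).1) h3
  simp only [σ, Equiv.Perm.subtypePerm_pow, ← map_pow] at h4
  exact (mul_inv_eq_iff_eq_mul.1 h4).symm

theorem exists_sylow_normalized {S Q : Subgroup Γ} (P : Sylow 2 Γ) (hP : (P : Subgroup Γ) ≤ centralizer (Q : Set Γ))
    (hN : S ≤ normalizer (Q : Set Γ)) (h3 : ∀ s ∈ S, s ^ 3 ∈ Q) (h : ¬ 3 ∣ Nat.card (centralizer (Q : Set Γ))) :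
    ∃ P : Sylow 2 Γ, S ≤ normalizer ((P : Subgroup Γ) : Set Γ) := by
  have : Fact (Nat.Prime 2) := ⟨Nat.prime_two⟩
  have : Fact (Nat.Prime 3) := ⟨Nat.prime_three⟩
  have h1 : S ≤ normalizer (centralizer (Q : Set Γ) : Set Γ) := le_normalizer_of fun s hs x hx y hy => by
    have := hx _ ((mem_normalizer_iff.1 (inv_mem (hN hs)) y).1 hy)
    calc _ = s * (s⁻¹ * y * s⁻¹⁻¹ * x) * s⁻¹ := by group
      _ = _ := by rw [this]; group
  let φ := (centralizer (Q : Set Γ)).normalizerMonoidHom.comp (inclusion h1)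
  have h2 : IsPGroup 3 φ.range := by
    rintro ⟨_, s, rfl⟩
    refine ⟨1, Subtype.ext ((map_pow φ s _).symm.trans (MulEquiv.ext fun x => Subtype.ext ?_))⟩
    exact mul_inv_eq_iff_eq_mul.2 (x.2 _ (h3 s s.2))
  obtain ⟨P0, h4⟩ := h2.nonempty_fixed_point_of_prime_not_dvd_card (Sylow 2 (centralizer (Q : Set Γ)))
    fun h4 => h (h4.trans ((P.subtype hP).card_dvd_index.trans (index_dvd_card _)))
  obtain ⟨P1, h5⟩ := (P0.isPGroup'.map (centralizer (Q : Set Γ)).subtype).exists_le_sylow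
  have h6 := eq_of_le_of_card_ge h5 (by
    rw [card_map_of_injective (subtype_injective _), Nat.card_congr (P0.equiv (P.subtype hP)).toEquiv,
      Sylow.coe_subtype, Nat.card_congr (subgroupOfEquivOfLe hP).toEquiv, Nat.card_congr (P.equiv P1).toEquiv])
  refine ⟨P1, h6 ▸ le_normalizer_of ?_⟩
  rintro s hs _ ⟨x, hx, rfl⟩
  have h7 : φ ⟨s, hs⟩ • P0 = P0 := h4 ⟨_, ⟨s, hs⟩, rfl⟩
  exact ⟨φ ⟨s, hs⟩ x, h7 ▸ smul_mem_pointwise_smul x _ _ hx, rfl⟩

theorem _root_.Cfsg.Agent.Chev.TorD.exists_normalized {n e c : ℕ} (T : TorD Γ n e c) {S : Subgroup Γ} {a a' : Γ}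
    (h1 : a' ∈ T.T) (h2 : a' ^ 2 ≠ 1) (h3 : IsConj a' a) (h : ∀ s ∈ S, Commute (s * a * s⁻¹) a) :
    ∃ A : Subgroup Γ, S ≤ normalizer (A : Set Γ) ∧ IsCyclic A ∧ Nat.card A = n := by
  obtain ⟨c, rfl⟩ := isConj_iff.1 h3
  have := T.cyc
  have f := T.C.equivMapOfInjective _ (show Function.Injective (MulAut.conj c).toMonoidHom from (MulAut.conj c).injective)
  refine ⟨_, le_normalizer_map c fun s hs x hx => ?_, isCyclic_of_surjective f f.surjective,
    (Nat.card_congr f.toEquiv).symm.trans T.card_C⟩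
  have h4 : Commute (c⁻¹ * s * c * a' * (c⁻¹ * s * c)⁻¹) a' := by
    simpa [mul_assoc] using (h s hs).map (MulAut.conj c⁻¹)
  generalize c⁻¹ * s * c = g at h4
  have h5 := T.cen a' h1 h2
  have h6 := T.cen _ (h5 ▸ mem_centralizer_singleton_iff.2 h4) (by rwa [conj_pow, Ne, conj_eq_one_iff])
  refine T.mem_C (h6 ▸ mem_centralizer_singleton_iff.2 ((T.comm _ (T.le hx) _ h1).map (MulAut.conj g))) ?_
  rw [← MulAut.conj_apply, MulEquiv.orderOf_eq]
  exact T.odd.of_dvd_nat (T.card_C ▸ orderOf_dvd_natCard _ hx)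

end general

variable {K : Type*} [Field K] {m : ℕ} {Γ : Type*} [Group Γ]

namespace RG

variable (R : RG K m Γ)
include R

theorem sq_eq_one_of_isPGroup {P : Subgroup Γ} (hP : IsPGroup 2 P) {x : Γ} (hx : x ∈ P) : x * x = 1 :=
  let ⟨_, hn⟩ := hP ⟨x, hx⟩; R.sq_eq_one_of_pow (congrArg Subtype.val hn)

theorem mul_comm_of_sq {x y : Γ} (hx : x * x = 1) (hy : y * y = 1) (h : x * y * (x * y) = 1) : x * y = y * x := by
  rw [← mul_eq_one_iff_inv_eq.1 h, mul_inv_rev, mul_eq_one_iff_inv_eq.1 hx, mul_eq_one_iff_inv_eq.1 hy]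

theorem exists_sylow_three {S : Subgroup Γ} {a : Γ} (ha : orderOf a = 3) (h : ∀ s ∈ S, Commute (s * a * s⁻¹) a) :
    ∃ P : Sylow 3 Γ, S ≤ normalizer ((P : Subgroup Γ) : Set Γ) := by
  have := R.finΓ
  have : Fact (Nat.Prime 3) := ⟨Nat.prime_three⟩
  obtain ⟨c, hc⟩ := R.exists_conj_mem_U (g := a) (n := 1) (by rw [pow_one, ← ha, pow_orderOf_eq_one])
  have h1 : c * a * c⁻¹ ≠ 1 := fun e => by simp [conj_eq_one_iff.1 e] at ha
  refine ⟨c⁻¹ • R.isPGroup_U.toSylow R.not_dvd_index_U, le_normalizer_map (A := R.U) c⁻¹ fun s hs x hx =>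
    R.conj_mem_U (R.mem_B_of_conj_mem hc h1 (R.mem_B_of_commute hc h1 ?_)) hx⟩
  simpa [mul_assoc] using ((h s hs).map (MulAut.conj c)).eq

theorem eq_of_invol_of_commute {a y y' : Γ} (ha : orderOf a = 3) (h : Commute y a) (h' : Commute y' a)
    (h1 : y * y = 1) (h2 : y' * y' = 1) (h3 : y * y' * (y * y') = 1) (h4 : y ≠ 1) (h5 : y' ≠ 1) : y = y' := by
  obtain ⟨c, hc⟩ := R.exists_conj_mem_U (g := a) (n := 1) (by rw [pow_one, ← ha, pow_orderOf_eq_one])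
  have h6 : ∀ u ∈ R.U, u * u = 1 → u = 1 := fun u hu e => by
    have := R.pow_nine hu
    rwa [show 3 ^ 2 = 2 * 4 + 1 from rfl, pow_succ, pow_mul, sq, e, one_pow, one_mul] at this
  have h7 : ∀ y, Commute y a → y * y = 1 → y ≠ 1 → ∃ u ∈ R.U, c * y * c⁻¹ = u * R.h (-1) := fun y h h1 h4 => by
    obtain ⟨u, hu, k, e⟩ := R.mem_B_of_commute hc (fun e => by simp [conj_eq_one_iff.1 e] at ha)
      (h.map (MulAut.conj c)).eq
    rw [MulAut.conj_apply] at e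
    obtain ⟨u', h8, h9⟩ := R.exists_pow_eq u hu k 2
    have h10 := (R.B_unique h8 (one_mem _) (k' := 1) (by rw [← h9, ← e, conj_pow, sq, h1]; simp)).2
    rcases sq_eq_one_iff.1 (show (k : K) ^ 2 = 1 by simpa using congrArg Units.val h10) with h11 | h11
    · rw [Units.val_eq_one.1 h11, map_one, mul_one] at e
      exact (h4 (conj_eq_one_iff.1 (h6 _ (e ▸ hu) (by rw [conj_mul, h1]; simp)))).elim
    · exact ⟨u, hu, by rw [e, show k = -1 from Units.ext h11]⟩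
  obtain ⟨u, hu, e⟩ := h7 y h h1 h4
  obtain ⟨u', hu', e'⟩ := h7 y' h' h2 h5
  have h8 : c * (y * y') * c⁻¹ ∈ R.U := by
    have := mul_mem hu (R.h_conj_mem (-1) hu')
    rwa [mul_eq_one_iff_inv_eq.1 R.i_mul_i, ← mul_assoc, ← mul_assoc, ← e, mul_assoc _ u', ← e', conj_mul] at this
  have h9 := conj_eq_one_iff.1 (h6 _ h8 (by rw [conj_mul, h3]; simp))
  rw [← mul_eq_one_iff_inv_eq.1 h9, mul_eq_one_iff_inv_eq.1 h1]

end RG

namespace RT

variable [Finite Γ] (R : RT K m Γ)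
include R

theorem card_dvd_eight {P : Subgroup Γ} (hP : IsPGroup 2 P) : Nat.card P ∣ 8 := by
  have : Fact (Nat.Prime 2) := ⟨Nat.prime_two⟩
  obtain ⟨n, hn⟩ := hP.exists_card_eq
  have h := card_subgroup_dvd_card P
  rw [R.card_Γ, hn, mul_left_comm] at h
  rw [hn]
  refine (Nat.Coprime.pow_left n (Nat.coprime_two_left.2 ?_)).dvd_of_dvd_mul_right h
  exact (R.card ▸ (Odd.pow (by decide)).pow).mul (R.T1.odd.mul (R.T2.odd.mul (R.T3.odd.mul R.T4.odd)))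

theorem exists_sylow_two {S : Subgroup Γ} (hS : Group.IsSolvable S)
    (hodd : ∀ a p, p.Prime → p ≠ 2 → orderOf a = p → ∃ s ∈ S, ¬ Commute (s * a * s⁻¹) a) :
    ∃ P : Sylow 2 Γ, S ≤ normalizer ((P : Subgroup Γ) : Set Γ) := by
  have : Fact (Nat.Prime 2) := ⟨Nat.prime_two⟩
  have : Fact (Nat.Prime 3) := ⟨Nat.prime_three⟩
  obtain ⟨Q, ⟨hQ, hN⟩, hmax⟩ := (Set.toFinite {E : Subgroup Γ | IsPGroup 2 E ∧ S ≤ normalizer (E : Set Γ)}).exists_maximal
    ⟨⊥, IsPGroup.of_bot, le_normalizer_of (by simp)⟩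
  have h2 : ∀ y ∈ Q, y * y = 1 := fun y => R.sq_eq_one_of_isPGroup hQ
  have h1 := centralizer_le_of_max hS hQ h2 hN (fun E h1 h2 => hmax ⟨h1, h2⟩) hodd
  obtain ⟨P, hP⟩ := hQ.exists_le_sylow
  by_cases h3 : Q = P
  · exact ⟨P, h3 ▸ hN⟩
  have h4 : Nat.card Q ≤ 4 := by
    have h5 := R.card_dvd_eight hQ
    have h6 := Nat.le_of_dvd (by decide) (R.card_dvd_eight P.isPGroup')
    have h7 : Nat.card Q < Nat.card P := lt_of_not_ge fun h => h3 (eq_of_le_of_card_ge hP h)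
    by_contra! h8
    have h9 := h7.trans_le h6
    interval_cases Nat.card Q <;> omega
  have h5 : (P : Subgroup Γ) ≤ centralizer (Q : Set Γ) := fun x hx y hy => R.mul_comm_of_sq (h2 y hy)
    (R.sq_eq_one_of_isPGroup P.isPGroup' hx) (R.sq_eq_one_of_isPGroup P.isPGroup' (mul_mem (hP hy) hx))
  by_cases h6 : 3 ∣ Nat.card (centralizer (Q : Set Γ))
  · obtain ⟨a, ha⟩ := exists_prime_orderOf_dvd_card' 3 h6
    refine ⟨P, le_trans (fun s hs => hP (h1 ⟨hs, fun y hy => ?_⟩)) le_normalizer⟩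
    have h7 := (mem_normalizer_iff.1 (hN hs) y).1 hy
    by_cases h8 : y = 1
    · simp [h8]
    exact (mul_inv_eq_iff_eq_mul.1 (R.eq_of_invol_of_commute (orderOf_coe a ▸ ha) (a.2 _ h7) (a.2 _ hy) (h2 _ h7)
      (h2 _ hy) (h2 _ (mul_mem h7 hy)) (by simpa using h8) h8)).symm
  · refine exists_sylow_normalized P h5 hN (fun s hs => h1 ⟨pow_mem hs _, fun y hy => ?_⟩) h6
    have h7 : s ^ 3 * s ^ 3 = 1 := R.sq_eq_one_of_pow (n := 2) (by
      rw [← h2 _ (h1 ⟨pow_mem hs _, pow_six_mem_centralizer h4 (hN hs)⟩), ← pow_add, ← pow_mul]; rfl)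
    refine R.mul_comm_of_sq (h2 y hy) h7 (R.sq_eq_one_of_pow (n := 2) ?_)
    rw [← h2 _ (mul_mem hy ((mem_normalizer_iff.1 (hN (pow_mem hs 3)) y).1 hy)), mul_eq_one_iff_inv_eq.1 h7]
    rw [pow_two 2, pow_mul, sq, sq]
    simp only [mul_assoc]

theorem solvable_cases {S : Subgroup Γ} (hS : Group.IsSolvable S) :
    (∃ P : Sylow 2 Γ, S ≤ normalizer ((P : Subgroup Γ) : Set Γ)) ∨
    (∃ P : Sylow 3 Γ, S ≤ normalizer ((P : Subgroup Γ) : Set Γ)) ∨
    ∃ A : Subgroup Γ, S ≤ normalizer (A : Set Γ) ∧ IsCyclic A ∧ (Nat.card A = 6 * R.s ^ 2 + 6 * R.s + 1 ∨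
      Nat.card A = 3 * R.s ^ 2 + 3 * R.s + 1 ∨ Nat.card A = 12 * R.s ^ 2 + 6 * R.s + 1 ∨
      Nat.card A = 12 * R.s ^ 2 + 18 * R.s + 7) := by
  by_cases h : ∀ a p, p.Prime → p ≠ 2 → orderOf a = p → ∃ s ∈ S, ¬ Commute (s * a * s⁻¹) a
  · exact .inl (R.exists_sylow_two hS h)
  push Not at h
  obtain ⟨a, p, hp, h2, ha, h⟩ := h
  by_cases h3 : p = 3
  · exact .inr (.inl (R.exists_sylow_three (ha.trans h3) h))
  refine .inr (.inr ?_)
  rcases R.tor_cases hp h2 h3 ha.symm.dvd with ⟨b, h4, h5, h6⟩ | ⟨b, h4, h5, h6⟩ | ⟨b, h4, h5, h6⟩ | ⟨b, h4, h5, h6⟩ <;>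
    obtain ⟨A, h7, h8, h9⟩ := TorD.exists_normalized _ h4 h5 h6 h <;> exact ⟨A, h7, h8, by simp [h9]⟩

end RT

end Cfsg.Agent.Ree
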