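import Cfsg.Agent.Lib.Ree.Inst
import Cfsg.Agent.Lib.Chev.Ree2

/-! The four classes of maximal tori of a small Ree group. -/

set_option autoImplicit false
set_option linter.unusedSectionVars false

namespace Cfsg.Agent.Ree

open Cfsg.Agent.Chev Cfsg.Lie

/-- A small Ree group together with its four maximal tori. -/
structure RT (K : Type*) [Field K] (m : ℕ) (Γ : Type*) [Group Γ] [Finite Γ] extends RG K m Γ where
  s : ℕ
  hs : 3 ^ m = 2 * s + 1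
  T1 : TorD Γ (6 * s ^ 2 + 6 * s + 1) 2 2
  T2 : TorD Γ (3 * s ^ 2 + 3 * s + 1) 4 6
  T3 : TorD Γ (12 * s ^ 2 + 6 * s + 1) 1 6
  T4 : TorD Γ (12 * s ^ 2 + 18 * s + 7) 1 6

theorem exists_rt {K : Type*} [Field K] [Fintype K] {m : ℕ} (hm : 1 ≤ m) (hK : Fintype.card K = 3 ^ (2 * m + 1)) :
    ∃ _ : Finite (twistedG2 K (3 ^ m)), Nonempty (RT K m (twistedG2 K (3 ^ m))) := by
  obtain ⟨R⟩ := exists_rg hm hK
  obtain ⟨s, h1, -, ⟨T1⟩, ⟨T2⟩, ⟨T3⟩, ⟨T4⟩⟩ := exists_tori hK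
  exact ⟨R.finΓ, ⟨⟨R, s, h1, T1, T2, T3, T4⟩⟩⟩

namespace RT

variable {K : Type*} [Field K] {m : ℕ} {Γ : Type*} [Group Γ] [Finite Γ] (R : RT K m Γ)

theorem s_pos : 1 ≤ R.s := by
  have := Nat.one_lt_pow (by have := R.hm; omega : m ≠ 0) (by decide : 1 < 3)
  have := R.hs
  omega

theorem q_eq : Nat.card K = 12 * R.s ^ 2 + 12 * R.s + 3 := by
  rw [R.card, pow_succ, mul_comm 2, pow_mul, R.hs]; ring

theorem card_Γ : Nat.card Γ = Nat.card K ^ 3 * (8 * ((6 * R.s ^ 2 + 6 * R.s + 1) * ((3 * R.s ^ 2 + 3 * R.s + 1) *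
    ((12 * R.s ^ 2 + 6 * R.s + 1) * (12 * R.s ^ 2 + 18 * R.s + 7))))) := by
  rw [R.card_eq, R.q_eq, show 12 * R.s ^ 2 + 12 * R.s + 3 - 1 = 2 * (6 * R.s ^ 2 + 6 * R.s + 1) by omega]; ring

theorem prime_cases {p : ℕ} (hp : p.Prime) (h2 : p ≠ 2) (h3 : p ≠ 3) (h : p ∣ Nat.card Γ) :
    p ∣ 6 * R.s ^ 2 + 6 * R.s + 1 ∨ p ∣ 3 * R.s ^ 2 + 3 * R.s + 1 ∨ p ∣ 12 * R.s ^ 2 + 6 * R.s + 1 ∨
      p ∣ 12 * R.s ^ 2 + 18 * R.s + 7 := by
  rw [R.card_Γ, R.card, hp.dvd_mul, hp.dvd_mul, hp.dvd_mul, hp.dvd_mul, hp.dvd_mul] at h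
  rcases h with h | h | h
  · exact absurd ((Nat.prime_dvd_prime_iff_eq hp Nat.prime_three).1 (hp.dvd_of_dvd_pow (hp.dvd_of_dvd_pow h))) h3
  · exact absurd ((Nat.prime_dvd_prime_iff_eq hp Nat.prime_two).1 (hp.dvd_of_dvd_pow (n := 3) h)) h2
  · exact h

end RT

theorem _root_.Cfsg.Agent.Chev.TorD.not_dvd_index {Γ : Type*} [Group Γ] [Finite Γ] {n e c : ℕ} (S : TorD Γ n e c)
    {p : ℕ} (hp : p.Prime) (h : p ∣ n) (he : ¬ p ∣ e) : ¬ p ∣ S.C.index := by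
  have h1 := Subgroup.relIndex_mul_index S.le
  have h2 := (S.C.subgroupOf S.T).card_mul_index
  rw [Nat.card_congr (Subgroup.subgroupOfEquivOfLe S.le).toEquiv, S.card_C, S.card_T, mul_comm] at h2
  rw [← h1, show S.C.relIndex S.T = e from Nat.eq_of_mul_eq_mul_right S.odd.pos h2, hp.dvd_mul]
  exact fun h3 => h3.elim he fun h3 => hp.one_lt.ne' (Nat.eq_one_of_dvd_coprimes S.hall h h3)

end Cfsg.Agent.Ree
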